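import Groth.Agent.Lib.SheafVan16.Vanish
import Groth.Agent.Lib.CohFound.Godement
import Mathlib.Topology.Spectral.ConstructibleTopology
import Mathlib.Topology.Spectral.Basic
import Mathlib.Topology.KrullDimension

/-! Vanishing above the dimension on spectral spaces: resolution through the constructible topology. -/

universe u

open CategoryTheory TopologicalSpace Opposite CategoryTheory.Limits

set_option autoImplicit false
set_option linter.style.haveILetI false
set_option linter.unusedSectionVars false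
set_option backward.isDefEq.respectTransparency false
set_option backward.isDefEq.respectTransparency.types false

namespace Groth.Agent.SheafVan16

open Groth.Agent.CohFound Groth.Agent.GodTot16

variable {X : TopCat.{u}} [SpectralSpace X]

/-- The space with its constructible topology. -/
abbrev cons (X : TopCat.{u}) : TopCat.{u} := TopCat.of (WithConstructibleTopology X)

theorem isOpen_cons {s : Set X} (hs : IsOpen s) (hc : IsCompact s) :
    IsOpen ((WithTopology.ofTopology : cons X → X) ⁻¹' s) := by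
  rw [WithConstructibleTopology.isOpen_iff]
  exact hc.isOpen_constructibleTopology_of_isOpen hs

theorem isClosed_cons {s : Set X} (hs : IsOpen s) (hc : IsCompact s) :
    IsClosed ((WithTopology.ofTopology : cons X → X) ⁻¹' s) := by
  rw [← isOpen_compl_iff, ← Set.preimage_compl, WithConstructibleTopology.isOpen_iff]
  change @IsOpen X (constructibleTopology X) sᶜ
  exact IsCompact.isOpen_constructibleTopology_of_isClosed (by rwa [compl_compl]) hs.isClosed_compl

theorem exists_qc {x : X} {U : Opens X} (hx : x ∈ U) : ∃ V : Opens X, IsCompact (V : Set X) ∧ x ∈ V ∧ V ≤ U := by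
  obtain ⟨T, ⟨hTo, hTc⟩, hxT, hTW⟩ :=
    (PrespectralSpace.isTopologicalBasis (X := X)).exists_subset_of_mem_open hx U.isOpen
  exact ⟨⟨T, hTo⟩, hTc, hxT, hTW⟩

/-- The continuous identity from the constructible topology. -/
noncomputable def cf (X : TopCat.{u}) [SpectralSpace X] : cons X ⟶ X :=
  TopCat.ofHom ⟨WithTopology.ofTopology, continuous_def.2 fun U hU => isOpen_iff_forall_mem_open.2 fun y hy => by
    obtain ⟨V, hV, hxV, hVU⟩ := exists_qc (U := ⟨U, hU⟩) (x := (WithTopology.ofTopology : cons X → X) y) hy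
    exact ⟨_, Set.preimage_mono hVU, isOpen_cons V.isOpen hV, hxV⟩⟩

variable (F : CohTop.Ab X)

/-- The first term of the resolution. -/
noncomputable abbrev gc : CohTop.Ab X := (CohTop.push (cf X)).obj ((CohTop.pull (cf X)).obj F)

/-- The first map of the resolution. -/
noncomputable abbrev gcUnit : F ⟶ gc F :=
  (TopCat.Sheaf.pullbackPushforwardAdjunction AddCommGrpCat.{u} (cf X)).unit.app F

instance mono_gcUnit : Mono (gcUnit F) := mono_of_st _ fun x a ha => by
  let y : cons X := WithTopology.toTopology _ x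
  haveI := isIso_stalkUnit (cf X) F y
  have h : stalkUnit (cf X) F y a = 0 := by
    rw [stalkUnit]
    change TopCat.Presheaf.stalkPushforward AddCommGrpCat.{u} (cf X) _ y (st (gcUnit F) x a) = 0
    rw [ha, map_zero]
  exact (AddCommGrpCat.mono_iff_injective _).1 (inferInstance : Mono (stalkUnit (cf X) F y)) (h.trans (map_zero _).symm)

theorem surjective_gc {U V : Opens X} (h : V ≤ U) (hV : IsCompact (V : Set X)) :
    Function.Surjective ((gc F).obj.map (homOfLE h).op) := by
  intro s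
  let G := (CohTop.pull (cf X)).obj F
  let A : Opens (cons X) := (Opens.map (cf X)).obj V
  let A' : Opens (cons X) := ⟨((WithTopology.ofTopology : cons X → X) ⁻¹' (V : Set X))ᶜ, (isClosed_cons V.isOpen hV).isOpen_compl⟩
  obtain ⟨w, hw, -⟩ := exists_glue₂ (F := G) (U := A) (V := A') s 0 (TopCat.Presheaf.section_ext G _ _ _ fun z hz =>
    (hz.2 hz.1).elim)
  have hle : (Opens.map (cf X)).obj U ≤ A ⊔ A' := fun z _ => by
    by_cases hz : z ∈ A
    · exact (le_sup_left : A ≤ A ⊔ A') hz
    · exact (le_sup_right : A' ≤ A ⊔ A') hz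
  refine ⟨G.obj.map (homOfLE hle).op w, ?_⟩
  rw [← hw]
  change G.obj.map _ (G.obj.map (homOfLE hle).op w) = _
  rw [← ConcreteCategory.comp_apply, ← Functor.map_comp]
  rfl

theorem subsingleton_hc_gc (n : ℕ) (U : Opens X) (hU : IsCompact (U : Set X)) :
    Subsingleton (Hc (gc F) (n + 1) U) :=
  subsingleton_hc_of_qcFlasque (gc F) (fun _ _ h _ hV => surjective_gc F h hV) n U hU
    (IsQuasiSeparated.of_quasiSeparatedSpace _)

/-- Points with a chain of `k` proper generalisations. -/
def Ht : ℕ → Set X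
  | 0 => Set.univ
  | k + 1 => {x | ∃ y ∈ Ht k, y ≠ x ∧ y ⤳ x}

theorem exists_series : ∀ (k : ℕ) (x : X), x ∈ Ht k →
    ∃ l : LTSeries (IrreducibleCloseds X), l.length = k ∧ (l.head : Set X) = closure {x}
  | 0, x, _ => ⟨RelSeries.singleton _ ⟨closure {x}, isIrreducible_singleton.closure, isClosed_closure⟩, rfl, rfl⟩
  | k + 1, x, ⟨y, hy, hne, hyx⟩ => by
    obtain ⟨l, hl, hlh⟩ := exists_series k y hy
    let c : IrreducibleCloseds X := ⟨closure {x}, isIrreducible_singleton.closure, isClosed_closure⟩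
    have hlt : c < l.head := by
      refine lt_of_le_of_ne (?_ : (c : Set X) ⊆ (l.head : Set X)) fun e => hne ?_
      · rw [hlh]; exact hyx.closure_subset
      · have h1 : closure {x} = closure {y} :=
          (congrArg (fun c : IrreducibleCloseds X => (c : Set X)) e).trans hlh
        exact (Inseparable.eq (inseparable_iff_closure_eq.2 h1.symm))
    exact ⟨l.cons c hlt, by simp [hl], rfl⟩

theorem ht_eq_empty {d : ℕ} (hd : topologicalKrullDim X ≤ d) {k : ℕ} (hk : d < k) : (Ht k : Set X) = ∅ := by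
  refine Set.eq_empty_iff_forall_notMem.2 fun x hx => ?_
  obtain ⟨l, hl, -⟩ := exists_series k x hx
  have := (Order.LTSeries.length_le_krullDim l).trans hd
  rw [hl] at this
  exact absurd (by exact_mod_cast this : k ≤ d) (by omega)

theorem supp_coker {k : ℕ} (hF : ∀ x ∉ (Ht k : Set X), ∀ a : (stk x).obj F, a = 0) (x : X) (hx : x ∉ (Ht (k + 1) : Set X))
    (b : (stk x).obj (cokernel (gcUnit F))) : b = 0 := by
  obtain ⟨c, rfl⟩ := st_surjective (cokernel.π (gcUnit F)) x b
  suffices ∃ a, st (gcUnit F) x a = c by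
    obtain ⟨a, rfl⟩ := this
    rw [← st_comp, cokernel.condition, st_zero]
  obtain ⟨W, hxW, t, rfl⟩ := exists_germ x c
  let G := (CohTop.pull (cf X)).obj F
  let y : cons X := WithTopology.toTopology _ x
  haveI := isIso_stalkUnit (cf X) F y
  obtain ⟨a, ha⟩ := (AddCommGrpCat.epi_iff_surjective _).1 (inferInstance : Epi (stalkUnit (cf X) F y))
    (germ G y (show y ∈ (Opens.map (cf X)).obj W from hxW) t)
  obtain ⟨W0, hxW0, s, rfl⟩ := exists_germ x a
  refine ⟨germ F x hxW0 s, ?_⟩
  rw [st_germ]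
  let t' : G.obj.obj (op ((Opens.map (cf X)).obj W0)) := (gcUnit F).hom.app (op W0) s
  have hu : ∀ (z : cons X) (hz : cf X z ∈ W0), stalkUnit (cf X) F z (germ F (cf X z) hz s) = germ G z hz t' :=
    fun z hz => ConcreteCategory.congr_hom (germ_stalkUnit (cf X) F z W0 hz) s
  let E : Set (cons X) := {z | ∃ (h1 : cf X z ∈ W) (h2 : cf X z ∈ W0), germ G z h1 t = germ G z h2 t'}
  have hE : IsOpen E := isOpen_iff_forall_mem_open.2 fun z ⟨h1, h2, e⟩ => by
    obtain ⟨O, hzO, i1, i2, eO⟩ := TopCat.Presheaf.germ_eq G.obj z h1 h2 _ _ e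
    refine ⟨O, fun z' hz' => ⟨leOfHom i1 hz', leOfHom i2 hz', ?_⟩, O.isOpen, hzO⟩
    exact ((germ_map (leOfHom i1) z' hz' t).symm.trans (congrArg (germ G z' hz') eO)).trans (germ_map (leOfHom i2) z' hz' t')
  obtain ⟨V0, hV0c, hxV0, hV0⟩ := exists_qc (U := W ⊓ W0) (x := x) ⟨hxW, hxW0⟩
  have hK : IsCompact ((cf X ⁻¹' (V0 : Set X)) \ E) :=
    ((isClosed_cons V0.isOpen hV0c).sdiff hE).isCompact
  have hsep : ∀ z ∈ (cf X ⁻¹' (V0 : Set X)) \ E, ∃ O : Opens X, IsCompact (O : Set X) ∧ x ∈ O ∧ cf X z ∉ O := by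
    rintro z ⟨hzV, hzE⟩
    by_cases hsp : cf X z ⤳ x
    · refine (hzE ⟨(hV0 hzV).1, (hV0 hzV).2, ?_⟩).elim
      by_cases hzy : cf X z = x
      · obtain rfl : z = y := congrArg (WithTopology.toTopology _) hzy
        exact ha.symm.trans (hu y hxW0)
      · have h0 : ∀ q : (stk z).obj G, q = 0 := fun q => by
          haveI := isIso_stalkUnit (cf X) F z
          obtain ⟨r, rfl⟩ := (AddCommGrpCat.epi_iff_surjective _).1 (inferInstance : Epi (stalkUnit (cf X) F z)) q
          rw [hF (cf X z) (fun h => hx ⟨cf X z, h, hzy, hsp⟩) r]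
          exact map_zero _
        exact (h0 _).trans (h0 _).symm
    · rw [specializes_iff_forall_open] at hsp
      push Not at hsp
      obtain ⟨O, hO, hxO, hzO⟩ := hsp
      obtain ⟨O', hO'c, hxO', hO'⟩ := exists_qc (U := ⟨O, hO⟩) (x := x) hxO
      exact ⟨O', hO'c, hxO', fun h => hzO (hO' h)⟩
  choose O hOc hxO hzO using hsep
  obtain ⟨S, hS⟩ := hK.elim_finite_subcover
    (fun z : ↥((cf X ⁻¹' (V0 : Set X)) \ E) => (cf X ⁻¹' (O z.1 z.2 : Set X))ᶜ)
    (fun z => (isClosed_cons (O z.1 z.2).isOpen (hOc z.1 z.2)).isOpen_compl)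
    (fun z hz => Set.mem_iUnion.2 ⟨⟨z, hz⟩, hzO z hz⟩)
  let V : Opens X := V0 ⊓ S.inf fun z => O z.1 z.2
  have hxV : x ∈ V := ⟨hxV0, by
    change x ∈ ((S.inf fun z => O z.1 z.2 : Opens X) : Set X)
    rw [Opens.coe_finset_inf, Finset.inf_set_eq_iInter]
    exact Set.mem_iInter₂.2 fun z _ => hxO z.1 z.2⟩
  have hVE : ∀ z : cons X, cf X z ∈ V → z ∈ E := fun z hz => by
    by_contra hzE
    obtain ⟨w, hwS, hw⟩ := Set.mem_iUnion₂.1 (hS ⟨hz.1, hzE⟩)
    exact hw ((Finset.inf_le hwS : (S.inf fun z => O z.1 z.2) ≤ O w.1 w.2) hz.2)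
  have hVW0 : V ≤ W0 := inf_le_left.trans (hV0.trans inf_le_right)
  have hVW : V ≤ W := inf_le_left.trans (hV0.trans inf_le_left)
  refine (germ_map hVW0 x hxV _).symm.trans (Eq.trans ?_ (germ_map hVW x hxV t))
  refine congrArg (germ (gc F) x hxV) ?_
  refine TopCat.Presheaf.section_ext G _ _ _ fun z hz => ?_
  obtain ⟨h1, h2, e⟩ := hVE z hz
  exact ((germ_map (leOfHom ((Opens.map (cf X)).map (homOfLE hVW0))) z hz t').trans e.symm).trans
    (germ_map (leOfHom ((Opens.map (cf X)).map (homOfLE hVW))) z hz t).symm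

theorem van_of_ht {d : ℕ} (hd : topologicalKrullDim X ≤ d) : ∀ (j k : ℕ), d + 1 ≤ k + j → ∀ G : CohTop.Ab X,
    (∀ x ∉ (Ht k : Set X), ∀ a : (stk x).obj G, a = 0) → ∀ U : Opens X, IsCompact (U : Set X) →
      ∀ p, d < p + k → Subsingleton (Hc G p U) := by
  intro j
  induction j with
  | zero =>
    intro k hk G hG U _ p _
    have hz : IsZero G := isZero_of_st fun x a => hG x (by rw [ht_eq_empty hd (show d < k by omega)]; exact id) a
    exact subsingleton_of_forall_eq 0 fun ξ => by rw [← mp_id G p U ξ, hz.eq_of_src (𝟙 G) 0, mp_zero]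
  | succ j ih =>
    intro k hk G hG U hU p hp
    rcases p with _ | p
    · have hz : IsZero G := isZero_of_st fun x a => hG x (by rw [ht_eq_empty hd (show d < k by omega)]; exact id) a
      exact subsingleton_of_forall_eq 0 fun ξ => by rw [← mp_id G 0 U ξ, hz.eq_of_src (𝟙 G) 0, mp_zero]
    · exact van_X₁ (shortExact_cok (gcUnit G)) U p (subsingleton_hc_gc G p U hU)
        (ih (k + 1) (by omega) _ (supp_coker G hG) U hU p (by omega))

theorem surjective_rs_of_ht {d : ℕ} (hd : topologicalKrullDim X ≤ d) : ∀ (p k : ℕ), p + k = d → ∀ G : CohTop.Ab X,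
    (∀ x ∉ (Ht k : Set X), ∀ a : (stk x).obj G, a = 0) → ∀ U : Opens X, IsCompact (U : Set X) →
      Function.Surjective (rs G p (le_top : U ≤ ⊤)) := by
  intro p
  induction p with
  | zero =>
    intro k hk G hG U hU
    haveI : Epi (gcUnit G) := Preadditive.epi_of_cancel_zero _ fun g hg => by
      have hzero : IsZero (cokernel (gcUnit G)) := isZero_of_st fun x a => supp_coker G hG x
        (by rw [ht_eq_empty hd (show d < k + 1 by omega)]; exact id) a
      rw [← cokernel.π_desc (gcUnit G) g hg, hzero.eq_of_src (cokernel.desc _ g hg) 0, comp_zero]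
    haveI : IsIso (gcUnit G) := isIso_of_mono_of_epi _
    intro ξ
    obtain ⟨t, ht⟩ := surjective_gc G (le_top : U ≤ ⊤) hU (hc0 _ U (mp (gcUnit G) 0 U ξ))
    refine ⟨mp (inv (gcUnit G)) 0 ⊤ ((hc0 _ ⊤).symm t), ?_⟩
    rw [← mp_rs, show rs (gc G) 0 (le_top : U ≤ ⊤) ((hc0 _ ⊤).symm t) = mp (gcUnit G) 0 U ξ from
      (hc0 _ U).injective (by rw [hc0_rs, AddEquiv.apply_symm_apply, ht]), ← mp_comp, IsIso.hom_inv_id, mp_id]
  | succ p ih =>
    intro k hk G hG U hU ξ
    let hS := shortExact_cok (gcUnit G)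
    haveI := subsingleton_hc_gc G p U hU
    obtain ⟨η, rfl⟩ := CohFound.exact₁ hS p U ξ (Subsingleton.elim _ _)
    obtain ⟨η', rfl⟩ := ih (k + 1) (by omega) _ (supp_coker G hG) U hU η
    exact ⟨delta hS p ⊤ η', (delta_rs hS p _ η').symm⟩

end Groth.Agent.SheafVan16
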