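import Groth.Agent.Lib.SheafVan16.Vanish
import Groth.Agent.Lib.CohFound.Flasque
import Mathlib.Topology.KrullDimension
import Mathlib.Topology.NoetherianSpace
import Mathlib.Topology.QuasiSeparated

/-! Grothendieck vanishing on Noetherian spaces. -/

universe u

open CategoryTheory TopologicalSpace Opposite CategoryTheory.Limits

set_option autoImplicit false
set_option linter.style.haveILetI false
set_option linter.unusedSectionVars false
set_option backward.isDefEq.respectTransparency false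
set_option backward.isDefEq.respectTransparency.types false

namespace Groth.Agent.SheafVan16

open Groth.Agent.CohFound Groth.Agent.GodTot16

variable {X : TopCat.{u}}

/-- `F` has zero stalks outside `Z`. -/
def Supp (Z : Set X) (F : CohTop.Ab X) : Prop := ∀ x ∉ Z, ∀ a : (stk x).obj F, a = 0

theorem supp_of_mono {Z : Set X} {F G : CohTop.Ab X} (i : F ⟶ G) [Mono i] (h : Supp Z G) : Supp Z F :=
  fun x hx a => st_injective i x ((h x hx (st i x a)).trans (map_zero _).symm)

theorem supp_of_epi {Z : Set X} {F G : CohTop.Ab X} (i : F ⟶ G) [Epi i] (h : Supp Z F) : Supp Z G :=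
  fun x hx a => by obtain ⟨b, rfl⟩ := st_surjective i x a; rw [h x hx b, map_zero]

/-- The subsheaf of a sheaf generated by its sections on opens inside `U`. -/
theorem exists_open_part (F : CohTop.Ab X) (U : Opens X) :
    ∃ (K : CohTop.Ab X) (i : K ⟶ F), Mono i ∧ (∀ x ∉ U, ∀ a : (stk x).obj K, a = 0) ∧
      ∀ x ∈ U, Function.Surjective (st i x) := by
  let T := Σ V : {V : Opens X // V ≤ U}, (freeU V.1 ⟶ F)
  let P : T → CohTop.Ab X := fun t => freeU t.1.1
  let f : ∐ P ⟶ F := Sigma.desc fun t => t.2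
  have hP : ∀ x ∉ U, ∀ a : (stk x).obj (∐ P), a = 0 := fun x hx => by
    have h0 : IsZero ((stk x).obj (∐ P)) := (IsZero.iff_id_eq_zero _).2
      (Cofan.IsColimit.hom_ext (isColimitCofanMkObjOfIsColimit (stk x) _ _ (coproductIsCoproduct P)) _ _ fun t => by
        refine AddCommGrpCat.hom_ext (AddMonoidHom.ext fun b => ?_)
        change (stk x).map (Sigma.ι P t) b = 0
        rw [(exists_eq_zsmul_gx t.1.1 x b).2 (fun h => hx (t.1.2 h))]
        exact map_zero _)
    haveI : Subsingleton ((stk x).obj (∐ P)) := AddCommGrpCat.subsingleton_of_isZero h0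
    exact fun a => Subsingleton.elim a 0
  refine ⟨_, Abelian.image.ι f, inferInstance, fun x hx a => ?_, fun x hx b => ?_⟩
  · obtain ⟨c, rfl⟩ := st_surjective (Abelian.factorThruImage f) x a
    rw [hP x hx c, map_zero]
  · obtain ⟨W, hxW, s, rfl⟩ := exists_germ x b
    suffices germ F x hxW s ∈ rng (Abelian.image.ι f) x from this
    rw [rng_image_ι]
    let t : T := ⟨⟨W ⊓ U, inf_le_right⟩, (freeHomAddEquiv (W ⊓ U) F).symm (F.obj.map (homOfLE inf_le_left).op s)⟩
    refine (congrArg (fun g => rng g x) (Sigma.ι_desc (fun t : T => t.2) t).symm).le.trans (rng_comp_le _ _ x)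
      ⟨gx (W ⊓ U) x ⟨hxW, hx⟩, ?_⟩
    rw [st_freeHom, AddEquiv.apply_symm_apply]
    exact germ_map inf_le_left x ⟨hxW, hx⟩ s

theorem subsingleton_hc_of_isZero {F : CohTop.Ab X} (h : IsZero F) (p : ℕ) (U : Opens X) : Subsingleton (Hc F p U) :=
  subsingleton_of_forall_eq 0 fun x => by rw [← mp_id F p U x, h.eq_of_src (𝟙 F) 0, mp_zero]

theorem van_of_supp_union [PrespectralSpace X] {U : Opens X} (hU : IsCompact (U : Set X))
    (hq : IsQuasiSeparated (U : Set X)) {d : ℕ} {Z Z₁ Z₂ : Set X} (hcl : IsClosed Z₁) (hZ : Z ⊆ Z₁ ∪ Z₂)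
    (h1 : ∀ F, Supp Z₁ F → Van U d F) (h2 : ∀ F, Supp Z₂ F → Van U d F) (F : CohTop.Ab X) (hF : Supp Z F) :
    Van U d F := by
  obtain ⟨K, i, _, hK, hsurj⟩ := exists_open_part F ⟨Z₁ᶜ, hcl.isOpen_compl⟩
  refine (closed_van hU hq d).ext _ (shortExact_cok i) (h2 K fun x hx a => ?_) (h1 _ fun x hx a => ?_)
  · by_cases hxZ : x ∈ Z
    · exact hK x (fun h => (hZ hxZ).elim h hx) a
    · exact supp_of_mono i hF x hxZ a
  · obtain ⟨b, rfl⟩ := st_surjective (cokernel.π i) x a
    obtain ⟨c, rfl⟩ := hsurj x hx b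
    rw [← st_comp, cokernel.condition, st_zero]

/-- The model of the constant sheaf on a closed subset. -/
noncomputable def closedModel (Z : Closeds X) : Model (Z : Set X) where
  G := cokernel (incFree (le_top : (⟨(Z : Set X)ᶜ, Z.isClosed.isOpen_compl⟩ : Opens X) ≤ ⊤))
  q := cokernel.π _
  surj x := st_surjective _ x
  inj x hx := (injective_iff_map_eq_zero _).2 fun a ha => by
    obtain ⟨b, hb⟩ := st_exact (ShortComplex.exact_cokernel _) x a ha
    rw [← hb, (exists_eq_zsmul_gx _ x b).2 (fun h => h hx)]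
    exact map_zero _
  zero x hx a := by
    obtain ⟨b, rfl⟩ := st_surjective (cokernel.π _) x a
    obtain ⟨n, rfl⟩ := (exists_eq_zsmul_gx ⊤ x b).1 (Set.mem_univ x)
    rw [map_zsmul, ← st_incFree (le_top : (⟨(Z : Set X)ᶜ, Z.isClosed.isOpen_compl⟩ : Opens X) ≤ ⊤) x hx,
      ← st_comp, cokernel.condition, st_zero, zsmul_zero]

theorem isFlasque_model {Z : Set X} (M : Model Z) (hZ : IsPreirreducible Z) :
    TopCat.Sheaf.IsFlasque M.G := by
  refine isFlasque_mk M.G fun U V h => ?_
  suffices hsurj : Function.Surjective (M.G.obj.map (homOfLE (le_top : V ≤ ⊤)).op) by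
    intro s
    obtain ⟨t, rfl⟩ := hsurj s
    refine ⟨M.G.obj.map (homOfLE (le_top : U ≤ ⊤)).op t, ?_⟩
    rw [← ConcreteCategory.comp_apply, ← Functor.map_comp]
    rfl
  intro s
  let g0 : M.G.obj.obj (op ⊤) := freeHomAddEquiv ⊤ M.G M.q
  have hg : ∀ x, germ M.G x (Set.mem_univ x : x ∈ (⊤ : Opens X)) g0 = M.g x := fun x =>
    (st_freeHom M.q x (Set.mem_univ x)).symm
  by_cases hne : ((V : Set X) ∩ Z).Nonempty
  · obtain ⟨z, hzV, hzZ⟩ := hne
    obtain ⟨n, hn⟩ := M.exists_zsmul z (germ M.G z hzV s)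
    refine ⟨n • g0, TopCat.Presheaf.section_ext M.G V _ _ fun x hxV => ?_⟩
    refine (germ_map le_top x hxV (n • g0)).trans ?_
    refine ((map_zsmul _ _ _).trans (congrArg (n • ·) (hg x))).trans ?_
    change n • M.g x = germ M.G x hxV s
    by_cases hxZ : x ∈ Z
    · obtain ⟨m, hm⟩ := M.exists_zsmul x (germ M.G x hxV s)
      have eq : ∀ (y : X) (hy : y ∈ V) (k : ℤ), germ M.G y hy s = k • M.g y →
          ∃ W : Opens X, y ∈ W ∧ ∀ y' ∈ W, ∀ hy' : y' ∈ V, germ M.G y' hy' s = k • M.g y' := fun y hy k hk => by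
        have e0 : germ M.G y hy s = germ M.G y (Set.mem_univ y : y ∈ (⊤ : Opens X)) (k • g0) :=
          hk.trans ((congrArg (k • ·) (hg y).symm).trans (map_zsmul _ _ _).symm)
        obtain ⟨W, hyW, i1, i2, e⟩ := TopCat.Presheaf.germ_eq M.G.obj y hy (Set.mem_univ y) _ _ e0
        refine ⟨W, hyW, fun y' hy' hy'V => ?_⟩
        refine (germ_map (leOfHom i1) y' hy' s).symm.trans ?_
        refine (congrArg (germ M.G y' hy') e).trans ?_
        refine (germ_map (leOfHom i2) y' hy' (k • g0)).trans ?_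
        exact (map_zsmul _ _ _).trans (congrArg (k • ·) (hg y'))
      obtain ⟨W, hzW, hW⟩ := eq z hzV n hn
      obtain ⟨W', hxW', hW'⟩ := eq x hxV m hm
      obtain ⟨y, hyZ, ⟨hyW, hyV⟩, hyW'⟩ := hZ _ _ (W ⊓ V).isOpen W'.isOpen ⟨z, hzZ, hzW, hzV⟩ ⟨x, hxZ, hxW'⟩
      have hnm : (n - m) • M.g y = 0 := by
        rw [sub_zsmul]
        exact (sub_eq_add_neg _ _).symm.trans (sub_eq_zero.2 ((hW y hyW hyV).symm.trans (hW' y hyW' hyV)))
      rw [hm, sub_eq_zero.1 (M.zsmul_eq_zero hyZ hnm)]
    · rw [M.g_eq_zero hxZ, zsmul_zero]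
      exact (M.zero x hxZ _).symm
  · refine ⟨0, TopCat.Presheaf.section_ext M.G V _ _ fun x hxV => ?_⟩
    exact (M.zero x (fun h => hne ⟨x, hxV, h⟩) _).trans (M.zero x (fun h => hne ⟨x, hxV, h⟩) _).symm

/-- The irreducible closed subsets of a closed subspace inside those of the ambient one. -/
theorem dim_lt {Z Z' : Closeds X} (hZ : IsIrreducible (Z : Set X)) (h : Z' < Z) {n : ℕ}
    (hn : topologicalKrullDim (Z : Set X) ≤ n) :
    (n = 0 → Z' = ⊥) ∧ ∀ m : ℕ, n = m + 1 → topologicalKrullDim (Z' : Set X) ≤ m := by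
  have hsub : (Z' : Set X) ⊆ Z := h.le
  let j : ↥(Z' : Set X) → ↥(Z : Set X) := Set.inclusion hsub
  have hj : Topology.IsClosedEmbedding j :=
    ⟨Topology.IsEmbedding.inclusion hsub, by rw [Set.range_inclusion]; exact Z'.isClosed.preimage continuous_subtype_val⟩
  haveI : IrreducibleSpace (Z : Set X) := isIrreducible_iff_irreducibleSpace.mp hZ
  let φ : IrreducibleCloseds (Z' : Set X) → IrreducibleCloseds (Z : Set X) := fun c =>
    ⟨j '' (c : Set (Z' : Set X)), c.isIrreducible'.image j hj.continuous.continuousOn, hj.isClosedMap _ c.isClosed'⟩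
  let top : IrreducibleCloseds (Z : Set X) := ⟨Set.univ, IrreducibleSpace.isIrreducible_univ _, isClosed_univ⟩
  have hφ : StrictMono φ := fun a b hab => by
    refine lt_of_le_of_ne (Set.image_mono hab.le) fun e => hab.ne (SetLike.coe_injective ?_)
    exact hj.injective.image_injective (congrArg (fun c : IrreducibleCloseds (Z : Set X) => (c : Set (Z : Set X))) e)
  have htop : ∀ c, φ c < top := fun c => by
    refine lt_of_le_of_ne (Set.subset_univ _) fun e => h.ne (SetLike.coe_injective (Set.Subset.antisymm hsub fun x hx => ?_))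
    have hx' : (⟨x, hx⟩ : (Z : Set X)) ∈ j '' (c : Set (Z' : Set X)) := by
      have h1 : j '' (c : Set (Z' : Set X)) = Set.univ :=
        congrArg (fun c : IrreducibleCloseds (Z : Set X) => (c : Set (Z : Set X))) e
      rw [h1]; trivial
    obtain ⟨y, -, hy⟩ := hx'
    have : (y : X) = x := congrArg Subtype.val hy
    exact this ▸ y.2
  have hlen : ∀ l : LTSeries (IrreducibleCloseds (Z' : Set X)), ((l.length + 1 : ℕ) : WithBot ℕ∞) ≤ n := fun l => by
    let l' : LTSeries (IrreducibleCloseds (Z : Set X)) := (l.map φ hφ).snoc top (by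
      rw [LTSeries.last_map]
      exact htop _)
    have hl : l'.length = l.length + 1 := rfl
    rw [← hl]
    exact (Order.LTSeries.length_le_krullDim l').trans hn
  refine ⟨fun h0 => ?_, fun m hm => iSup_le fun l => ?_⟩
  · by_contra hne
    obtain ⟨x, hx⟩ : ((Z' : Set X)).Nonempty := by
      rw [Set.nonempty_iff_ne_empty]
      exact fun e => hne (SetLike.coe_injective e)
    have := hlen (RelSeries.singleton _ ⟨closure {(⟨x, hx⟩ : (Z' : Set X))}, isIrreducible_singleton.closure, isClosed_closure⟩)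
    rw [h0] at this
    exact absurd (by exact_mod_cast this : 0 + 1 ≤ 0) (by omega)
  · have := hlen l
    rw [hm] at this
    exact_mod_cast Nat.le_of_succ_le_succ (by exact_mod_cast this : l.length + 1 ≤ m + 1)

/-- Grothendieck vanishing, with supports. -/
theorem van_of_supp [NoetherianSpace X] (Z : Closeds X) : ∀ n : ℕ, topologicalKrullDim (Z : Set X) ≤ n →
    ∀ F : CohTop.Ab X, Supp (Z : Set X) F → Van ⊤ n F := by
  haveI : PrespectralSpace X :=
    ⟨isTopologicalBasis_of_isOpen_of_nhds (fun s hs => hs.1) fun a v ha hv =>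
      ⟨v, ⟨hv, NoetherianSpace.isCompact _⟩, ha, le_rfl⟩⟩
  haveI : QuasiSeparatedSpace X := ⟨fun U V _ _ _ _ => NoetherianSpace.isCompact _⟩
  have hU : IsCompact ((⊤ : Opens X) : Set X) := NoetherianSpace.isCompact _
  have hq : IsQuasiSeparated ((⊤ : Opens X) : Set X) := IsQuasiSeparated.of_quasiSeparatedSpace _
  induction Z using WellFoundedLT.induction with
  | ind Z ih =>
    intro n hn F hF
    by_cases hirr : IsPreirreducible (Z : Set X)
    · rcases (Z : Set X).eq_empty_or_nonempty with he | hne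
      · exact van_of_isZero (isZero_of_st fun x a => hF x (by rw [he]; exact id) a)
      let M := closedModel Z
      refine mem_of_supported M (closed_van hU hq n) (fun _ => True) (fun _ _ _ _ => trivial) (fun V _ => ?_)
        (fun x W hx => ⟨W, trivial, hx, le_rfl⟩) F hF
      let a := Abelian.image.ι (M.sc V 1)
      have ha : ∀ x ∈ V, Function.Surjective (st a x) := fun x hx b => by
        obtain ⟨k, rfl⟩ := M.exists_zsmul x b
        suffices k • M.g x ∈ rng a x from this
        rw [rng_image_ι]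
        exact ⟨k • gx V x hx, by rw [map_zsmul, M.st_sc, Nat.cast_one, one_zsmul]⟩
      have hQ : Supp ((Z : Set X) ∩ (V : Set X)ᶜ) (cokernel a) := fun x hx b => by
        obtain ⟨c, rfl⟩ := st_surjective (cokernel.π a) x b
        by_cases hxV : x ∈ V
        · obtain ⟨d, rfl⟩ := ha x hxV c
          rw [← st_comp, cokernel.condition, st_zero]
        · rw [M.zero x (fun h => hx ⟨h, hxV⟩) c, map_zero]
      let Z' : Closeds X := ⟨(Z : Set X) ∩ (V : Set X)ᶜ, Z.isClosed.inter V.isOpen.isClosed_compl⟩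
      by_cases hlt : Z' < Z
      · obtain ⟨h0, hm⟩ := dim_lt ⟨hne, hirr⟩ hlt hn
        intro p hp
        obtain ⟨q, rfl⟩ : ∃ q, p = q + 1 := ⟨p - 1, by omega⟩
        haveI := isFlasque_model M hirr
        refine van_X₁ (shortExact_cok a) ⊤ q (subsingleton_hc_of_isFlasque M.G q ⊤) ?_
        rcases n with _ | m
        · exact subsingleton_hc_of_isZero (isZero_of_st fun x b => hQ x (fun hx => by
            have : x ∈ (Z' : Set X) := hx
            rw [h0 rfl] at this
            exact this) b) q ⊤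
        · exact ih Z' hlt m (hm m rfl) _ hQ q (by omega)
      · have hVe : ∀ x ∈ (Z : Set X), x ∉ V := fun x hx hxV =>
          hlt (lt_of_le_of_ne Set.inter_subset_left fun e => ((congrArg (fun c : Closeds X => (c : Set X)) e).symm ▸ hx : x ∈ (Z' : Set X)).2 hxV)
        refine van_of_isZero (isZero_of_st fun x b => ?_)
        obtain ⟨c, rfl⟩ := st_surjective (Abelian.factorThruImage (M.sc V 1)) x b
        by_cases hxV : x ∈ V
        · exact supp_of_mono a M.zero x (fun h => hVe x h hxV) _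
        · rw [(exists_eq_zsmul_gx V x c).2 hxV, map_zero]
    · simp only [IsPreirreducible, not_forall] at hirr
      obtain ⟨U₁, U₂, hU₁, hU₂, ⟨x₁, hx₁⟩, ⟨x₂, hx₂⟩, hne⟩ := hirr
      let Z₁ : Closeds X := ⟨(Z : Set X) ∩ U₁ᶜ, Z.isClosed.inter hU₁.isClosed_compl⟩
      let Z₂ : Closeds X := ⟨(Z : Set X) ∩ U₂ᶜ, Z.isClosed.inter hU₂.isClosed_compl⟩
      have h₁ : Z₁ < Z := lt_of_le_of_ne Set.inter_subset_left fun e =>
        ((congrArg (fun c : Closeds X => (c : Set X)) e).symm ▸ hx₁.1 : x₁ ∈ (Z₁ : Set X)).2 hx₁.2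
      have h₂ : Z₂ < Z := lt_of_le_of_ne Set.inter_subset_left fun e =>
        ((congrArg (fun c : Closeds X => (c : Set X)) e).symm ▸ hx₂.1 : x₂ ∈ (Z₂ : Set X)).2 hx₂.2
      refine van_of_supp_union hU hq (Z₁ := Z₁) (Z₂ := Z₂) Z₁.isClosed (fun x hx => ?_)
        (fun G hG => ih Z₁ h₁ n ((topologicalKrullDim_mono h₁.le).trans hn) G hG)
        (fun G hG => ih Z₂ h₂ n ((topologicalKrullDim_mono h₂.le).trans hn) G hG) F hF
      by_cases hxU : x ∈ U₁
      · exact Or.inr ⟨hx, fun hxU₂ => hne ⟨x, hx, hxU, hxU₂⟩⟩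
      · exact Or.inl ⟨hx, hxU⟩
where
  topologicalKrullDim_mono {A B : Closeds X} (h : A ≤ B) :
      topologicalKrullDim (A : Set X) ≤ topologicalKrullDim (B : Set X) :=
    (Topology.IsEmbedding.inclusion h).isInducing.topologicalKrullDim_le

end Groth.Agent.SheafVan16
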