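import Groth.Agent.Lib.SheafVan16.NbhdColim
import Mathlib.Topology.Separation.Regular

/-! Compact Hausdorff subspaces: extension of sections and soft sheaves. -/

universe u

open CategoryTheory TopologicalSpace Opposite CategoryTheory.Limits

set_option autoImplicit false
set_option linter.style.haveILetI false
set_option linter.unusedSectionVars false
set_option backward.isDefEq.respectTransparency false
set_option backward.isDefEq.respectTransparency.types false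

namespace Groth.Agent.SheafVan16

open Groth.Agent.CohFound Groth.Agent.GodTot16

variable {X Z : TopCat.{u}}

theorem separatedNhds_of_pairwise {C₁ C₂ : Set X} (h1 : IsCompact C₁) (h2 : IsCompact C₂)
    (h : ∀ x ∈ C₁, ∀ y ∈ C₂, ∃ U V : Set X, IsOpen U ∧ IsOpen V ∧ x ∈ U ∧ y ∈ V ∧ Disjoint U V) :
    SeparatedNhds C₁ C₂ := by
  refine h1.induction_on (p := fun s => SeparatedNhds s C₂) (SeparatedNhds.empty_left C₂)
    (fun s t hst ht => ht.mono hst le_rfl) (fun s t hs ht => hs.union_left ht) fun x hx => ?_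
  obtain ⟨U, V, hU, hV, hxU, hCV, hd⟩ : SeparatedNhds {x} C₂ :=
    h2.induction_on (p := fun s => SeparatedNhds {x} s) (SeparatedNhds.empty_right _)
      (fun s t hst ht => ht.mono le_rfl hst) (fun s t hs ht => hs.union_right ht) fun y hy => by
        obtain ⟨U, V, hU, hV, hxU, hyV, hd⟩ := h x hx y hy
        exact ⟨V, mem_nhdsWithin_of_mem_nhds (hV.mem_nhds hyV), U, V, hU, hV, Set.singleton_subset_iff.2 hxU, le_rfl, hd⟩
  exact ⟨U, mem_nhdsWithin_of_mem_nhds (hU.mem_nhds (hxU rfl)), U, V, hU, hV, le_rfl, hCV, hd⟩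

variable (i : Z ⟶ X) (F : CohTop.Ab X)

/-- Separated embedding data. -/
def PairSep : Prop := Function.Injective i ∧
  ∀ z z' : Z, z ≠ z' → ∃ U V : Set X, IsOpen U ∧ IsOpen V ∧ i z ∈ U ∧ i z' ∈ V ∧ Disjoint U V

variable {i}

theorem PairSep.t2 (h : PairSep i) : T2Space Z := ⟨fun z z' hne => by
  obtain ⟨U, V, hU, hV, hz, hz', hd⟩ := h.2 z z' hne
  exact ⟨i ⁻¹' U, i ⁻¹' V, hU.preimage i.hom.continuous, hV.preimage i.hom.continuous, hz, hz', hd.preimage i⟩⟩

theorem rel_union (h : PairSep i) {K₁ K₂ : Set Z} (hK1 : IsCompact K₁) (hK2 : IsCompact K₂) {O : Opens Z}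
    {t : ((CohTop.pull i).obj F).obj.obj (op O)} {U V : Opens X} {s : F.obj.obj (op U)} {r : F.obj.obj (op V)}
    (h1 : Rel i F K₁ t s) (h2 : Rel i F K₂ t r) :
    ∃ (W : Opens X) (w : F.obj.obj (op W)), Rel i F (K₁ ∪ K₂) t w := by
  obtain ⟨A, hA, hAeq⟩ := exists_eqLocus i F h1 h2
  obtain ⟨V₁, V₂, hV₁, hV₂, hC1, hC2, hd⟩ := separatedNhds_of_pairwise
    ((hK1.image i.hom.continuous).diff A.isOpen) ((hK2.image i.hom.continuous).diff A.isOpen)
    (by
      rintro x ⟨⟨z, hz, rfl⟩, hxA⟩ y ⟨⟨z', hz', rfl⟩, hyA⟩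
      exact h.2 z z' fun e => hxA (hA z hz (e ▸ hz')))
  obtain ⟨w, hw⟩ := rel_glue i F h1 h2 (U ⊓ (⟨V₁, hV₁⟩ ⊔ A)) (V ⊓ (⟨V₂, hV₂⟩ ⊔ A)) inf_le_left inf_le_left
    (fun x hx hx' => by
      rcases hx.2 with a | a
      · rcases hx'.2 with b | b
        · exact absurd ⟨a, b⟩ (fun e => Set.disjoint_iff.1 hd e)
        · exact hAeq x b
      · exact hAeq x a)
    (fun z hz => ⟨(h1 z hz).2.1, (Classical.em (i z ∈ A)).elim Or.inr fun hzA => Or.inl (hC1 ⟨⟨z, hz, rfl⟩, hzA⟩)⟩)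
    (fun z hz => ⟨(h2 z hz).2.1, (Classical.em (i z ∈ A)).elim Or.inr fun hzA => Or.inl (hC2 ⟨⟨z, hz, rfl⟩, hzA⟩)⟩)
  exact ⟨_, w, hw⟩

theorem exists_rel [CompactSpace Z] (h : PairSep i) {K : Set Z} (hK : IsCompact K) {O : Opens Z} (hKO : K ⊆ O)
    (t : ((CohTop.pull i).obj F).obj.obj (op O)) : ∃ (U : Opens X) (s : F.obj.obj (op U)), Rel i F K t s := by
  haveI := h.t2
  choose U s N hzN hzU hrel using fun z : K => exists_local i F t (hKO z.2)
  choose C hCz hCc hCN using fun z : K => exists_mem_nhds_isClosed_subset ((N z).isOpen.mem_nhds (hzN z))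
  obtain ⟨S, hS⟩ := hK.elim_finite_subcover (fun z : K => interior (C z)) (fun z => isOpen_interior)
    fun z hz => Set.mem_iUnion.2 ⟨⟨z, hz⟩, mem_interior_iff_mem_nhds.2 (hCz ⟨z, hz⟩)⟩
  have key : ∀ S : Finset K, ∃ (U : Opens X) (s : F.obj.obj (op U)), Rel i F (K ∩ ⋃ z ∈ S, C z) t s := by
    classical
    intro S
    induction S using Finset.induction_on with
    | empty => exact ⟨⊥, 0, fun z hz => by simp at hz⟩
    | insert a S _ ih =>
      obtain ⟨U', s', hs'⟩ := ih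
      obtain ⟨W, w, hw⟩ := rel_union F h (hK.inter_right (hCc a))
        (hK.inter_right (S.finite_toSet.isClosed_biUnion fun z _ => hCc z))
        (t := t) (s := s a) (r := s') (fun z hz => hrel a z (hCN a hz.2)) hs'
      exact ⟨W, w, fun z hz => hw z (by
        obtain ⟨hzK, hz⟩ := hz
        rw [Finset.set_biUnion_insert] at hz
        exact hz.elim (fun e => Or.inl ⟨hzK, e⟩) fun e => Or.inr ⟨hzK, e⟩)⟩
  obtain ⟨U', s', hs'⟩ := key S
  refine ⟨U', s', fun z hz => hs' z ⟨hz, ?_⟩⟩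
  obtain ⟨w, hwS, hw⟩ := Set.mem_iUnion₂.1 (hS hz)
  exact Set.mem_iUnion₂.2 ⟨w, hwS, interior_subset hw⟩

/-- Sections near compact subsets extend to global ones. -/
def Soft (G : CohTop.Ab Z) : Prop :=
  ∀ (K : Set Z), IsCompact K → ∀ (O : Opens Z) (hKO : K ⊆ O) (t : G.obj.obj (op O)),
    ∃ g : G.obj.obj (op (⊤ : Opens Z)), ∀ (z : Z) (hz : z ∈ K), germ G z (Set.mem_univ z : z ∈ (⊤ : Opens Z)) g = germ G z (hKO hz) t

theorem soft_pull [CompactSpace Z] (h : PairSep i) [TopCat.Sheaf.IsFlasque F] :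
    Soft ((CohTop.pull i).obj F) := by
  intro K hK O hKO t
  obtain ⟨U, s, hs⟩ := exists_rel F h hK hKO t
  obtain ⟨s', rfl⟩ := (AddCommGrpCat.epi_iff_surjective _).1
    ((inferInstance : TopCat.Sheaf.IsFlasque F).epi (homOfLE (le_top : U ≤ ⊤)).op) s
  refine ⟨unitSec i F s', fun z hz => ?_⟩
  obtain ⟨h1, h2, e⟩ := hs z hz
  exact ((σ_germ i F s' z (Set.mem_univ (i z) : i z ∈ (⊤ : Opens X))).symm.trans
    (congrArg (σ i F z) (germ_map le_top (i z) h2 s').symm)).trans e.symm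

section Acyclic

variable [CompactSpace Z] [T2Space Z] {S : ShortComplex (CohTop.Ab Z)} (hS : S.ShortExact)

include hS in
theorem exists_lift_germ (h1 : Soft S.X₁) {K : Set Z} (hK : IsCompact K) {O : Opens Z} (hKO : K ⊆ O)
    (q : S.X₃.obj.obj (op O)) :
    ∃ (U : Opens Z) (s : S.X₂.obj.obj (op U)), ∀ (z : Z) (hz : z ∈ K), ∃ hzU : z ∈ U,
      st S.g z (germ S.X₂ z hzU s) = germ S.X₃ z (hKO hz) q := by
  haveI := hS.epi_g
  haveI := hS.mono_f
  let P : Set Z → Prop := fun K => ∃ (U : Opens Z) (s : S.X₂.obj.obj (op U)), ∀ z ∈ K, ∃ (hzU : z ∈ U) (hzO : z ∈ O),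
      st S.g z (germ S.X₂ z hzU s) = germ S.X₃ z hzO q
  suffices P K by
    obtain ⟨U, s, hs⟩ := this
    exact ⟨U, s, fun z hz => ⟨(hs z hz).1, (hs z hz).2.2⟩⟩
  have hunion : ∀ K₁ K₂, IsCompact K₁ → IsCompact K₂ → P K₁ → P K₂ → P (K₁ ∪ K₂) := by
    rintro K₁ K₂ hK1 hK2 ⟨U, a, ha⟩ ⟨V, b, hb⟩
    let d : S.X₂.obj.obj (op (U ⊓ V)) :=
      S.X₂.obj.map (homOfLE inf_le_left).op a - S.X₂.obj.map (homOfLE inf_le_right).op b
    obtain ⟨W, hWle, hW⟩ := exists_open_eq (S.g.hom.app (op (U ⊓ V)) d) (0 : S.X₃.obj.obj (op (U ⊓ V)))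
    have hWUV : W ≤ U ⊓ V := hWle.trans inf_le_left
    obtain ⟨e, he⟩ := exact_app hS.exact (S.X₂.obj.map (homOfLE hWUV).op d) (TopCat.Presheaf.section_ext S.X₃ W _ _ fun z hz => by
      obtain ⟨p1, p2, p⟩ := (hW z).1 hz
      exact (congrArg (germ S.X₃ z hz) (NatTrans.naturality_apply S.g.hom (homOfLE hWUV).op d)).trans
        (((germ_map hWUV z hz _).trans (p.trans (map_zero _))).trans (map_zero _).symm))
    have hd : ∀ z ∈ K₁ ∩ K₂, ∀ (z1 : z ∈ U ⊓ V), germ S.X₂ z z1 d = germ S.X₂ z z1.1 a - germ S.X₂ z z1.2 b := fun z _ z1 =>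
      (map_sub _ _ _).trans (congrArg₂ (· - ·) (germ_map inf_le_left z z1 a) (germ_map inf_le_right z z1 b))
    have hsubW : ∀ z, z ∈ K₁ ∩ K₂ → z ∈ W := fun z hz => by
      obtain ⟨a1, aO, ea⟩ := ha z hz.1
      obtain ⟨b1, bO, eb⟩ := hb z hz.2
      have huv : z ∈ U ⊓ V := ⟨a1, b1⟩
      refine (hW z).2 ⟨huv, huv, ?_⟩
      refine (st_germ (F := S.X₂) S.g z huv d).symm.trans ?_
      rw [hd z hz huv, map_sub, ea, eb, sub_self]
      exact (map_zero _).symm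
    obtain ⟨e', he'⟩ := h1 (K₁ ∩ K₂) (hK1.inter hK2) W hsubW e
    let b' : S.X₂.obj.obj (op V) := b + S.f.hom.app (op V) (S.X₁.obj.map (homOfLE (le_top : V ≤ ⊤)).op e')
    obtain ⟨A, -, hA⟩ := exists_open_eq a b'
    have hbg : ∀ (z : Z) (hz : z ∈ V), st S.g z (germ S.X₂ z hz b') = st S.g z (germ S.X₂ z hz b) := fun z hz => by
      refine ((congrArg (st S.g z) (map_add _ _ _)).trans (map_add _ _ _)).trans ?_
      refine (congrArg (_ + ·) ?_).trans (add_zero _)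
      refine (congrArg (st S.g z) (st_germ S.f z hz _).symm).trans ?_
      rw [← st_comp, S.zero, st_zero]
    have hsubA : ∀ z ∈ K₁ ∩ K₂, z ∈ A := fun z hz => by
      obtain ⟨a1, -, -⟩ := ha z hz.1
      obtain ⟨b1, -, -⟩ := hb z hz.2
      refine (hA z).2 ⟨a1, b1, ?_⟩
      have he2 : st S.f z (germ S.X₁ z b1 (S.X₁.obj.map (homOfLE (le_top : V ≤ ⊤)).op e')) =
          germ S.X₂ z a1 a - germ S.X₂ z b1 b := by
        rw [germ_map le_top z b1 e', he' z hz, st_germ, he]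
        exact (germ_map hWUV z (hsubW z hz) d).trans (hd z hz (hWUV (hsubW z hz)))
      refine Eq.trans ?_ (map_add _ _ _).symm
      refine Eq.trans ?_ (congrArg (germ S.X₂ z b1 b + ·) (he2.symm.trans (st_germ S.f z b1 _)))
      exact (add_sub_cancel _ _).symm
    obtain ⟨V₁, V₂, hV₁, hV₂, hC1, hC2, hdis⟩ := SeparatedNhds.of_isCompact_isCompact (hK1.diff A.isOpen) (hK2.diff A.isOpen)
      (Set.disjoint_iff.2 fun z hz => hz.1.2 (hsubA z ⟨hz.1.1, hz.2.1⟩))
    let U' : Opens Z := U ⊓ (⟨V₁, hV₁⟩ ⊔ A)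
    let V' : Opens Z := V ⊓ (⟨V₂, hV₂⟩ ⊔ A)
    obtain ⟨w, hw1, hw2⟩ := exists_glue_germ (G := S.X₂) (S.X₂.obj.map (homOfLE (inf_le_left : U' ≤ U)).op a)
      (S.X₂.obj.map (homOfLE (inf_le_left : V' ≤ V)).op b') fun z hzU hzV => by
        have hzA : z ∈ A := by
          rcases hzU.2 with p | p
          · rcases hzV.2 with q | q
            · exact absurd ⟨p, q⟩ (fun e => Set.disjoint_iff.1 hdis e)
            · exact q
          · exact p
        obtain ⟨p1, p2, p⟩ := (hA z).1 hzA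
        exact ((germ_map (inf_le_left : U' ≤ U) z hzU a).trans p).trans (germ_map (inf_le_left : V' ≤ V) z hzV b').symm
    refine ⟨U' ⊔ V', w, fun z hz => ?_⟩
    rcases hz with hz | hz
    · obtain ⟨a1, aO, ea⟩ := ha z hz
      have hzU : z ∈ U' := ⟨a1, (Classical.em (z ∈ A)).elim Or.inr fun hzA => Or.inl (hC1 ⟨hz, hzA⟩)⟩
      exact ⟨(le_sup_left : U' ≤ U' ⊔ V') hzU, aO,
        (congrArg (st S.g z) ((hw1 z hzU).trans (germ_map (inf_le_left : U' ≤ U) z hzU a))).trans ea⟩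
    · obtain ⟨b1, bO, eb⟩ := hb z hz
      have hzV : z ∈ V' := ⟨b1, (Classical.em (z ∈ A)).elim Or.inr fun hzA => Or.inl (hC2 ⟨hz, hzA⟩)⟩
      exact ⟨(le_sup_right : V' ≤ U' ⊔ V') hzV, bO,
        ((congrArg (st S.g z) ((hw2 z hzV).trans (germ_map (inf_le_left : V' ≤ V) z hzV b'))).trans (hbg z b1)).trans eb⟩
  have hloc : ∀ z : K, ∃ C : Set Z, C ∈ nhds (z : Z) ∧ IsClosed C ∧ P C := fun z => by
    obtain ⟨a, ha⟩ := st_surjective S.g z (germ S.X₃ z (hKO z.2) q)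
    obtain ⟨U, hU, s, rfl⟩ := exists_germ (z : Z) a
    obtain ⟨A, -, hA⟩ := exists_open_eq (S.g.hom.app (op U) s) q
    have hzA : (z : Z) ∈ A := (hA z).2 ⟨hU, hKO z.2, (st_germ S.g z hU s).symm.trans ha⟩
    obtain ⟨C, hC, hCc, hCA⟩ := exists_mem_nhds_isClosed_subset (A.isOpen.mem_nhds hzA)
    refine ⟨C, hC, hCc, U, s, fun w hw => ?_⟩
    obtain ⟨w1, w2, e⟩ := (hA w).1 (hCA hw)
    exact ⟨w1, w2, (st_germ S.g w w1 s).trans e⟩
  choose C hCz hCc hPC using hloc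
  obtain ⟨T, hT⟩ := hK.elim_finite_subcover (fun z : K => interior (C z)) (fun z => isOpen_interior)
    fun z hz => Set.mem_iUnion.2 ⟨⟨z, hz⟩, mem_interior_iff_mem_nhds.2 (hCz ⟨z, hz⟩)⟩
  have key : ∀ T : Finset K, P (⋃ z ∈ T, C z) := by
    classical
    intro T
    induction T using Finset.induction_on with
    | empty => exact ⟨⊥, 0, fun z hz => by simp at hz⟩
    | insert x T _ ih =>
      rw [Finset.set_biUnion_insert]
      exact hunion _ _ (hCc x).isCompact (T.finite_toSet.isClosed_biUnion fun z _ => hCc z).isCompact (hPC x) ih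
  obtain ⟨U, s, hs⟩ := key T
  refine ⟨U, s, fun z hz => hs z ?_⟩
  obtain ⟨w, hwT, hw⟩ := Set.mem_iUnion₂.1 (hT hz)
  exact Set.mem_iUnion₂.2 ⟨w, hwT, interior_subset hw⟩

theorem soft_X₃ (h1 : Soft S.X₁) (h2 : Soft S.X₂) (hS : S.ShortExact) : Soft S.X₃ := by
  intro K hK O hKO q
  obtain ⟨U, s, hs⟩ := exists_lift_germ hS h1 hK hKO q
  obtain ⟨g, hg⟩ := h2 K hK U (fun z hz => (hs z hz).1) s
  exact ⟨S.g.hom.app (op ⊤) g, fun z hz =>
    ((st_germ S.g z (Set.mem_univ z) g).symm.trans (congrArg (st S.g z) (hg z hz))).trans (hs z hz).2⟩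

theorem surjective_app_top (h1 : Soft S.X₁) (hS : S.ShortExact) :
    Function.Surjective (S.g.hom.app (op (⊤ : Opens Z))) := by
  intro q
  obtain ⟨U, s, hs⟩ := exists_lift_germ hS h1 isCompact_univ (show Set.univ ⊆ ((⊤ : Opens Z) : Set Z) from fun z _ => trivial) q
  have hU : (⊤ : Opens Z) ≤ U := fun z _ => (hs z trivial).1
  refine ⟨S.X₂.obj.map (homOfLE hU).op s, TopCat.Presheaf.section_ext S.X₃ _ _ _ fun z hz => ?_⟩
  exact ((st_germ S.g z hz _).symm.trans (congrArg (st S.g z) (germ_map hU z hz s))).trans (hs z trivial).2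

theorem soft_of_isFlasque (G : CohTop.Ab Z) [TopCat.Sheaf.IsFlasque G] : Soft G := fun K _ O hKO t => by
  obtain ⟨g, rfl⟩ := (AddCommGrpCat.epi_iff_surjective _).1
    ((inferInstance : TopCat.Sheaf.IsFlasque G).epi (homOfLE (le_top : O ≤ ⊤)).op) t
  exact ⟨g, fun z hz => (germ_map le_top z (hKO hz) g).symm⟩

theorem subsingleton_hc_of_soft (n : ℕ) : ∀ G : CohTop.Ab Z, Soft G → Subsingleton (Hc G (n + 1) (⊤ : Opens Z)) := by
  induction n with
  | zero =>
    intro G hG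
    refine subsingleton_of_forall_eq 0 fun x => ?_
    obtain ⟨c, rfl⟩ := CohFound.exact₁ (injSC_shortExact G) 0 ⊤ x (Subsingleton.elim _ _)
    exact delta_eq_zero_of_surjective (injSC_shortExact G) ⊤ (surjective_app_top (S := injSC G) hG (injSC_shortExact G)) c
  | succ n ih =>
    intro G hG
    refine subsingleton_of_forall_eq 0 fun x => ?_
    obtain ⟨c, rfl⟩ := CohFound.exact₁ (injSC_shortExact G) (n + 1) ⊤ x (Subsingleton.elim _ _)
    haveI : TopCat.Sheaf.IsFlasque (injSC G).X₂ := isFlasque_of_injective (Injective.under G)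
    have := ih _ (soft_X₃ (S := injSC G) hG (soft_of_isFlasque _) (injSC_shortExact G))
    rw [Subsingleton.elim c 0, map_zero]

end Acyclic

end Groth.Agent.SheafVan16
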