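import Groth.Agent.Lib.SheafVan16.RpushStalk
import Groth.Agent.Lib.SheafVan16.Hausdorff
import Groth.Agent.Lib.RDerLES.Horseshoe
import Mathlib.Topology.Category.TopCat.Limits.Pullbacks
import Mathlib.Topology.Maps.Proper.Basic

/-! Proper base change in topology. -/

universe u

open CategoryTheory TopologicalSpace Opposite CategoryTheory.Limits

set_option autoImplicit false
set_option linter.style.haveILetI false
set_option linter.unusedSectionVars false
set_option backward.isDefEq.respectTransparency false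
set_option backward.isDefEq.respectTransparency.types false

namespace Groth.Agent.SheafVan16

open Groth.Agent.CohFound Groth.Agent.GodTot16

section Shift

universe v v' w w'

variable {C : Type w} [Category.{v} C] [Abelian C] [EnoughInjectives C] [HasInjectiveResolutions C]
  {D : Type w'} [Category.{v'} D] [Abelian D] (G : C ⥤ D) [G.Additive] [PreservesFiniteLimits G]
  {S : ShortComplex C} (hS : S.ShortExact)

include hS

theorem nonempty_rightDerived_one_iso_cokernel (h : IsZero ((G.rightDerived 1).obj S.X₂)) :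
    Nonempty ((G.rightDerived 1).obj S.X₁ ≅ cokernel (G.map S.g)) := by
  obtain ⟨T⟩ := RDerLES.exists_sesRes hS
  obtain ⟨w, he⟩ := (RDerLES.exact_sequences G T 0 1 rfl).2.1
  obtain ⟨w', he'⟩ := (RDerLES.exact_sequences G T 0 1 rfl).2.2
  haveI : Epi (T.delta G 0 1 rfl) := he'.epi_f (h.eq_of_tgt _ _)
  exact ⟨IsColimit.coconePointUniqueUpToIso he.gIsCokernel (cokernelIsCokernel _) ≪≫
    cokernel.mapIso _ _ (G.rightDerivedZeroIsoSelf.app S.X₂) (G.rightDerivedZeroIsoSelf.app S.X₃)
      (G.rightDerivedZeroIsoSelf.hom.naturality S.g)⟩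

theorem nonempty_rightDerived_succ_iso (n : ℕ) (h1 : IsZero ((G.rightDerived (n + 1)).obj S.X₂))
    (h2 : IsZero ((G.rightDerived (n + 2)).obj S.X₂)) :
    Nonempty ((G.rightDerived (n + 2)).obj S.X₁ ≅ (G.rightDerived (n + 1)).obj S.X₃) := by
  obtain ⟨T⟩ := RDerLES.exists_sesRes hS
  obtain ⟨w, he⟩ := (RDerLES.exact_sequences G T (n + 1) (n + 2) rfl).2.1
  obtain ⟨w', he'⟩ := (RDerLES.exact_sequences G T (n + 1) (n + 2) rfl).2.2
  haveI : Epi (T.delta G (n + 1) (n + 2) rfl) := he'.epi_f (h2.eq_of_tgt _ _)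
  haveI : Mono (T.delta G (n + 1) (n + 2) rfl) := he.mono_g (h1.eq_of_src _ _)
  haveI := isIso_of_mono_of_epi (T.delta G (n + 1) (n + 2) rfl)
  exact ⟨(asIso (T.delta G (n + 1) (n + 2) rfl)).symm⟩

end Shift

variable {X Y X' Y' : TopCat.{u}} {f : X ⟶ Y} {g : Y' ⟶ Y} {f' : X' ⟶ Y'} {g' : X' ⟶ X}

/-- Fibres of `f` are separated in `X`. -/
def FibSep (f : X ⟶ Y) : Prop :=
  ∀ x x' : X, f x = f x' → x ≠ x' → ∃ U V : Set X, IsOpen U ∧ IsOpen V ∧ x ∈ U ∧ x' ∈ V ∧ Disjoint U V

theorem exists_fibre_point (sq : IsPullback g' f' f g) (x : X) (y' : Y') (h : f x = g y') :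
    ∃ x' : X', g' x' = x ∧ f' x' = y' := by
  let e := (TopCat.pullbackConeIsLimit f g).conePointUniqueUpToIso sq.isLimit
  refine ⟨e.hom ⟨(x, y'), h⟩, ?_, ?_⟩
  · exact ConcreteCategory.congr_hom ((TopCat.pullbackConeIsLimit f g).conePointUniqueUpToIso_hom_comp sq.isLimit WalkingCospan.left) ⟨(x, y'), h⟩
  · exact ConcreteCategory.congr_hom ((TopCat.pullbackConeIsLimit f g).conePointUniqueUpToIso_hom_comp sq.isLimit WalkingCospan.right) ⟨(x, y'), h⟩

theorem eq_of_maps (sq : IsPullback g' f' f g) {a b : X'} (h1 : g' a = g' b) (h2 : f' a = f' b) : a = b := by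
  let e := sq.isLimit.conePointUniqueUpToIso (TopCat.pullbackConeIsLimit f g)
  have he : ∀ c : X', ((e.hom c).1 : X × Y') = (g' c, f' c) := fun c => Prod.ext
    (ConcreteCategory.congr_hom (sq.isLimit.conePointUniqueUpToIso_hom_comp (TopCat.pullbackConeIsLimit f g) WalkingCospan.left) c)
    (ConcreteCategory.congr_hom (sq.isLimit.conePointUniqueUpToIso_hom_comp (TopCat.pullbackConeIsLimit f g) WalkingCospan.right) c)
  have : e.hom a = e.hom b := Subtype.ext (by rw [he, he, h1, h2])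
  exact (TopCat.homeoOfIso e).injective this

theorem fibSep_snd (sq : IsPullback g' f' f g) (hs : FibSep f) : FibSep f' := fun a b hab hne => by
  have hw : ∀ c, f (g' c) = g (f' c) := fun c => ConcreteCategory.congr_hom sq.w c
  obtain ⟨U, V, hU, hV, ha, hb, hd⟩ := hs (g' a) (g' b) (by rw [hw, hw, hab]) fun e => hne (eq_of_maps sq e hab)
  exact ⟨g' ⁻¹' U, g' ⁻¹' V, hU.preimage g'.hom.continuous, hV.preimage g'.hom.continuous, ha, hb, hd.preimage g'⟩

theorem isProperMap_snd (sq : IsPullback g' f' f g) (hf : IsProperMap f) : IsProperMap f' := by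
  let P : Set (Y × Y') := {p | p.1 = g p.2}
  have h1 : IsProperMap (Prod.map f (id : Y' → Y')) := hf.prodMap isProperMap_id
  let e := TopCat.homeoOfIso (sq.isLimit.conePointUniqueUpToIso (TopCat.pullbackConeIsLimit f g))
  let s : P ≃ₜ Y' :=
    { toFun := fun p => p.1.2
      invFun := fun y => ⟨(g y, y), rfl⟩
      left_inv := fun p => Subtype.ext (Prod.ext p.2.symm rfl)
      right_inv := fun y => rfl
      continuous_toFun := by fun_prop
      continuous_invFun := by fun_prop }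
  have h3 : IsProperMap (s ∘ P.restrictPreimage (Prod.map f (id : Y' → Y')) ∘ e) :=
    s.isProperMap.comp ((h1.restrictPreimage P).comp e.isProperMap)
  have hc : (f' : X' → Y') = s ∘ P.restrictPreimage (Prod.map f (id : Y' → Y')) ∘ e := funext fun c =>
    (ConcreteCategory.congr_hom (sq.isLimit.conePointUniqueUpToIso_hom_comp (TopCat.pullbackConeIsLimit f g) WalkingCospan.right) c).symm
  rw [hc]
  exact h3

section RelOn

theorem rel_union_on (F : CohTop.Ab X) {K₁ K₂ : Set X'} (hK1 : IsCompact K₁) (hK2 : IsCompact K₂)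
    (hsep : ∀ z ∈ K₁, ∀ z' ∈ K₂, z ≠ z' → ∃ U V : Set X, IsOpen U ∧ IsOpen V ∧ g' z ∈ U ∧ g' z' ∈ V ∧ Disjoint U V)
    {O : Opens X'} {t : ((CohTop.pull g').obj F).obj.obj (op O)} {U V : Opens X} {s : F.obj.obj (op U)}
    {r : F.obj.obj (op V)} (h1 : Rel g' F K₁ t s) (h2 : Rel g' F K₂ t r) :
    ∃ (W : Opens X) (w : F.obj.obj (op W)), Rel g' F (K₁ ∪ K₂) t w := by
  obtain ⟨A, hA, hAeq⟩ := exists_eqLocus g' F h1 h2
  obtain ⟨V₁, V₂, hV₁, hV₂, hC1, hC2, hd⟩ := separatedNhds_of_pairwise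
    ((hK1.image g'.hom.continuous).diff A.isOpen) ((hK2.image g'.hom.continuous).diff A.isOpen)
    (by
      rintro x ⟨⟨z, hz, rfl⟩, hxA⟩ y ⟨⟨z', hz', rfl⟩, hyA⟩
      exact hsep z hz z' hz' fun e => hxA (hA z hz (e ▸ hz')))
  obtain ⟨w, hw⟩ := rel_glue g' F h1 h2 (U ⊓ (⟨V₁, hV₁⟩ ⊔ A)) (V ⊓ (⟨V₂, hV₂⟩ ⊔ A)) inf_le_left inf_le_left
    (fun x hx hx' => by
      rcases hx.2 with a | a
      · rcases hx'.2 with b | b
        · exact absurd ⟨a, b⟩ (fun e => Set.disjoint_iff.1 hd e)
        · exact hAeq x b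
      · exact hAeq x a)
    (fun z hz => ⟨(h1 z hz).2.1, (Classical.em (g' z ∈ A)).elim Or.inr fun hzA => Or.inl (hC1 ⟨⟨z, hz, rfl⟩, hzA⟩)⟩)
    (fun z hz => ⟨(h2 z hz).2.1, (Classical.em (g' z ∈ A)).elim Or.inr fun hzA => Or.inl (hC2 ⟨⟨z, hz, rfl⟩, hzA⟩)⟩)
  exact ⟨_, w, hw⟩

theorem exists_rel_on (F : CohTop.Ab X) {K : Set X'} (hK : IsCompact K)
    (hsep : ∀ z ∈ K, ∀ z' ∈ K, z ≠ z' → ∃ U V : Set X, IsOpen U ∧ IsOpen V ∧ g' z ∈ U ∧ g' z' ∈ V ∧ Disjoint U V)
    {O : Opens X'} (hKO : K ⊆ O) (t : ((CohTop.pull g').obj F).obj.obj (op O)) :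
    ∃ (U : Opens X) (s : F.obj.obj (op U)), Rel g' F K t s := by
  haveI : CompactSpace K := isCompact_iff_compactSpace.1 hK
  haveI : T2Space K := ⟨fun a b hne => by
    obtain ⟨U, V, hU, hV, ha, hb, hd⟩ := hsep a.1 a.2 b.1 b.2 fun e => hne (Subtype.ext e)
    exact ⟨(g' ∘ Subtype.val) ⁻¹' U, (g' ∘ Subtype.val) ⁻¹' V, hU.preimage (g'.hom.continuous.comp continuous_subtype_val),
      hV.preimage (g'.hom.continuous.comp continuous_subtype_val), ha, hb, hd.preimage _⟩⟩
  choose U s N hzN hzU hrel using fun z : K => exists_local g' F t (hKO z.2)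
  choose C hCz hCc hCN using fun z : K =>
    exists_mem_nhds_isClosed_subset (((N z).isOpen.preimage continuous_subtype_val).mem_nhds (x := z) (hzN z))
  obtain ⟨S, hS⟩ := isCompact_univ.elim_finite_subcover (fun z : K => interior (C z)) (fun z => isOpen_interior)
    fun z _ => Set.mem_iUnion.2 ⟨z, mem_interior_iff_mem_nhds.2 (hCz z)⟩
  have key : ∀ S : Finset K, ∃ (U : Opens X) (s : F.obj.obj (op U)), Rel g' F (⋃ z ∈ S, Subtype.val '' C z) t s := by
    classical
    intro S
    induction S using Finset.induction_on with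
    | empty => exact ⟨⊥, 0, fun z hz => by simp at hz⟩
    | insert a S _ ih =>
      obtain ⟨U', s', hs'⟩ := ih
      obtain ⟨W, w, hw⟩ := rel_union_on F ((hCc a).isCompact.image continuous_subtype_val)
        (S.finite_toSet.isCompact_biUnion fun z _ => (hCc z).isCompact.image continuous_subtype_val)
        (by
          rintro _ ⟨z, -, rfl⟩ z' hz'
          obtain ⟨w, -, w', -, rfl⟩ := Set.mem_iUnion₂.1 hz'
          exact hsep z.1 z.2 w'.1 w'.2)
        (t := t) (s := s a) (r := s') (fun z ⟨z0, hz0, e⟩ => e ▸ hrel a z0.1 (hCN a hz0)) hs'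
      exact ⟨W, w, fun z hz => hw z (by rwa [Finset.set_biUnion_insert] at hz)⟩
  obtain ⟨U', s', hs'⟩ := key S
  refine ⟨U', s', fun z hz => hs' z ?_⟩
  obtain ⟨w, hwS, hw⟩ := Set.mem_iUnion₂.1 (hS (Set.mem_univ (⟨z, hz⟩ : K)))
  exact Set.mem_iUnion₂.2 ⟨w, hwS, ⟨z, hz⟩, interior_subset hw, rfl⟩

end RelOn

theorem isZero_rpush_pull_injective (sq : IsPullback g' f' f g) (hf : IsProperMap f) (hs : FibSep f)
    (I : CohTop.Ab X) (hI : Injective I) (n : ℕ) :
    IsZero ((CohTop.Rpush f' (n + 1)).obj ((CohTop.pull g').obj I)) := by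
  haveI := hI
  haveI := isFlasque_of_injective I
  refine isZero_of_st fun y a => ?_
  have hf' := isProperMap_snd sq hf
  have hs' := fibSep_snd sq hs
  let j : TopCat.of (f' ⁻¹' {y}) ⟶ X' := TopCat.ofHom ⟨((↑) : f' ⁻¹' {y} → X'), continuous_subtype_val⟩
  haveI : CompactSpace (TopCat.of (f' ⁻¹' {y})) :=
    isCompact_iff_compactSpace.1 (hf'.isCompact_preimage isCompact_singleton)
  have hp : PairSep j := ⟨Subtype.val_injective, fun z z' hne =>
    hs' z.1 z'.1 ((z.2 : f' z.1 = y).trans (z'.2 : f' z'.1 = y).symm) fun e => hne (Subtype.ext e)⟩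
  haveI := hp.t2
  have hn : IsNbhds j (preNbhd f' y) :=
    ⟨fun U ⟨V, hV, hU⟩ z => hU ▸ (show f' z.1 ∈ V from (z.2 : f' z.1 = y).symm ▸ hV), fun A hA =>
      ⟨op ((Opens.map f').obj ⟨(f' '' (A : Set X')ᶜ)ᶜ, (hf'.isClosedMap _ A.isOpen.isClosed_compl).isOpen_compl⟩),
        ⟨⟨(f' '' (A : Set X')ᶜ)ᶜ, (hf'.isClosedMap _ A.isOpen.isClosed_compl).isOpen_compl⟩,
          fun ⟨x, hx, hxy⟩ => hx (hA ⟨x, hxy⟩), rfl⟩,
        fun x hx => by_contra fun hxA => hx ⟨x, hxA, rfl⟩⟩⟩
  obtain ⟨e⟩ := nonempty_stalk_rpush_equiv hn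
    (fun G t => exists_rel G hp (O := ⊤) isCompact_univ (fun z _ => trivial) t)
    (fun J hJ m => haveI := hJ; haveI := isFlasque_of_injective J; subsingleton_hc_of_soft m _ (soft_pull J hp))
    ((CohTop.pull g').obj I) (n + 1)
  have hsoft : Soft ((CohTop.pull j).obj ((CohTop.pull g').obj I)) := by
    intro K hK O hKO t
    obtain ⟨U₁, s₁, hr₁⟩ := exists_rel ((CohTop.pull g').obj I) hp hK hKO t
    have hw : ∀ c, f (g' c) = g (f' c) := fun c => ConcreteCategory.congr_hom sq.w c
    obtain ⟨U, s, hr⟩ := exists_rel_on I (hK.image j.hom.continuous) (g' := g')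
      (by
        rintro _ ⟨z, -, rfl⟩ _ ⟨z', -, rfl⟩ hne
        have e1 : f' z.1 = f' z'.1 := (z.2 : f' z.1 = y).trans (z'.2 : f' z'.1 = y).symm
        exact hs _ _ (by rw [hw, hw]; exact congrArg g e1) fun e => hne (eq_of_maps sq e e1))
      (O := U₁) (by rintro _ ⟨z, hz, rfl⟩; exact (hr₁ z hz).2.1) s₁
    obtain ⟨s', rfl⟩ := (AddCommGrpCat.epi_iff_surjective _).1
      ((inferInstance : TopCat.Sheaf.IsFlasque I).epi (homOfLE (le_top : U ≤ ⊤)).op) s
    refine ⟨unitSec j ((CohTop.pull g').obj I) (unitSec g' I s'), fun z hz => ?_⟩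
    obtain ⟨a1, a2, ea⟩ := hr₁ z hz
    obtain ⟨b1, b2, eb⟩ := hr (j z) ⟨z, hz, rfl⟩
    refine (σ_germ j _ _ z (Set.mem_univ _)).symm.trans (Eq.trans ?_ ea.symm)
    refine congrArg (σ j _ z) ((σ_germ g' I s' (j z) (Set.mem_univ _)).symm.trans (Eq.trans ?_ eb.symm))
    exact congrArg (σ g' I (j z)) (germ_map le_top _ b2 s').symm
  haveI := subsingleton_hc_of_soft n _ hsoft
  haveI := (hExt ((CohTop.pull j).obj ((CohTop.pull g').obj I)) (n + 1)).toEquiv.subsingleton
  exact e.injective (Subsingleton.elim _ _)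

section Zero

variable (sq : IsPullback g' f' f g)

/-- The presheaf level base change map. -/
noncomputable def bcHom (F : CohTop.Ab X) :
    (CohTop.push f).obj F ⟶ (CohTop.push g).obj ((CohTop.push f').obj ((CohTop.pull g').obj F)) :=
  ⟨{ app := fun V => AddCommGrpCat.ofHom ((((CohTop.pull g').obj F).obj.map
        (homOfLE (fun x hx => (show f (g' x) ∈ V.unop from (ConcreteCategory.congr_hom sq.w x).symm ▸ hx) :
          (Opens.map f').obj ((Opens.map g).obj V.unop) ≤ (Opens.map g').obj ((Opens.map f).obj V.unop))).op).hom.comp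
        (((TopCat.Sheaf.pullbackPushforwardAdjunction AddCommGrpCat.{u} g').unit.app F).hom.app
          (op ((Opens.map f).obj V.unop))).hom)
     naturality := fun V W i => by
      ext s
      refine (congrArg (((CohTop.pull g').obj F).obj.map _) (NatTrans.naturality_apply
        ((TopCat.Sheaf.pullbackPushforwardAdjunction AddCommGrpCat.{u} g').unit.app F).hom
        ((Opens.map f).map i.unop).op s)).trans ?_
      change ((CohTop.pull g').obj F).obj.map _ (((CohTop.pull g').obj F).obj.map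
          ((Opens.map g').map ((Opens.map f).map i.unop)).op _) =
        ((CohTop.pull g').obj F).obj.map ((Opens.map f').map ((Opens.map g).map i.unop)).op
          (((CohTop.pull g').obj F).obj.map _ _)
      rw [← ConcreteCategory.comp_apply, ← ConcreteCategory.comp_apply, ← Functor.map_comp, ← Functor.map_comp]
      rfl }⟩

/-- The base change map in degree zero. -/
noncomputable def bcMap (F : CohTop.Ab X) :
    (CohTop.pull g).obj ((CohTop.push f).obj F) ⟶ (CohTop.push f').obj ((CohTop.pull g').obj F) :=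
  ((TopCat.Sheaf.pullbackPushforwardAdjunction AddCommGrpCat.{u} g).homEquiv _ _).symm (bcHom sq F)

theorem bcHom_natural {F G : CohTop.Ab X} (φ : F ⟶ G) :
    (CohTop.push f).map φ ≫ bcHom sq G =
      bcHom sq F ≫ (CohTop.push g).map ((CohTop.push f').map ((CohTop.pull g').map φ)) := by
  ext V s
  refine Eq.trans ?_ (NatTrans.naturality_apply ((CohTop.pull g').map φ).hom _ _).symm
  refine congrArg (((CohTop.pull g').obj G).obj.map _) ?_
  exact congrArg (fun ψ => (ψ.hom.app (op ((Opens.map f).obj V.unop))) s)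
    ((TopCat.Sheaf.pullbackPushforwardAdjunction AddCommGrpCat.{u} g').unit.naturality φ)

theorem bcMap_natural {F G : CohTop.Ab X} (φ : F ⟶ G) :
    (CohTop.pull g).map ((CohTop.push f).map φ) ≫ bcMap sq G =
      bcMap sq F ≫ (CohTop.push f').map ((CohTop.pull g').map φ) := by
  rw [bcMap, bcMap, ← Adjunction.homEquiv_naturality_left_symm, ← Adjunction.homEquiv_naturality_right_symm]
  exact congrArg _ (bcHom_natural sq φ)

theorem unitSec_bcMap (F : CohTop.Ab X) {V : Opens Y} (s : F.obj.obj (op ((Opens.map f).obj V))) :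
    (bcMap sq F).hom.app (op ((Opens.map g).obj V)) (unitSec g ((CohTop.push f).obj F) (U := V) s) =
      (bcHom sq F).hom.app (op V) s := by
  have e : (TopCat.Sheaf.pullbackPushforwardAdjunction AddCommGrpCat.{u} g).unit.app _ ≫
      (CohTop.push g).map (bcMap sq F) = bcHom sq F :=
    ((Adjunction.homEquiv_unit _ _ _ _).symm.trans (Equiv.apply_symm_apply _ _))
  exact congrArg (fun ψ => (ψ.hom.app (op V)) s) e

theorem st_bcMap (F : CohTop.Ab X) (y : Y') {V : Opens Y} (hy : g y ∈ V) (s : F.obj.obj (op ((Opens.map f).obj V))) :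
    st (bcMap sq F) y (σ g ((CohTop.push f).obj F) y (germ ((CohTop.push f).obj F) (g y) hy s)) =
      germ ((CohTop.push f').obj ((CohTop.pull g').obj F)) y (show y ∈ (Opens.map g).obj V from hy)
        ((bcHom sq F).hom.app (op V) s) := by
  rw [σ_germ, st_germ, unitSec_bcMap]

theorem germ_bcHom (F : CohTop.Ab X) {V : Opens Y} (s : F.obj.obj (op ((Opens.map f).obj V))) (z : X')
    (hz : z ∈ (Opens.map f').obj ((Opens.map g).obj V)) :
    ∃ hz' : g' z ∈ (Opens.map f).obj V,
      germ ((CohTop.pull g').obj F) z hz ((bcHom sq F).hom.app (op V) s) = σ g' F z (germ F (g' z) hz' s) := by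
  have hw : f (g' z) = g (f' z) := ConcreteCategory.congr_hom sq.w z
  refine ⟨show f (g' z) ∈ V from hw ▸ hz, (germ_map _ z hz _).trans (σ_germ g' F s z _).symm⟩

theorem isIso_bcMap (hf : IsProperMap f) (hs : FibSep f) (F : CohTop.Ab X) : IsIso (bcMap sq F) := by
  have hw : ∀ c, f (g' c) = g (f' c) := fun c => ConcreteCategory.congr_hom sq.w c
  have hf' := isProperMap_snd sq hf
  haveI : Mono (bcMap sq F) := mono_of_st _ fun y a ha => by
    obtain ⟨a, rfl⟩ := (bijective_σ g _ y).2 a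
    obtain ⟨V, hy, s, rfl⟩ := exists_germ (g y) a
    rw [st_bcMap] at ha
    obtain ⟨W, hyW, i1, i2, e⟩ := TopCat.Presheaf.germ_eq ((CohTop.push f').obj ((CohTop.pull g').obj F)).obj y
      (show y ∈ (Opens.map g).obj V from hy) (show y ∈ (Opens.map g).obj V from hy) _ 0 (ha.trans (map_zero _).symm)
    obtain ⟨A, hAle, hA⟩ := exists_open_eq (G := F) (U := (Opens.map f).obj V) (V := (Opens.map f).obj V)
      s (0 : F.obj.obj (op ((Opens.map f).obj V)))
    have hfib : ∀ x, f x = g y → x ∈ A := fun x hx => by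
      obtain ⟨z, rfl, hzy⟩ := exists_fibre_point sq x y hx
      have hzW : z ∈ (Opens.map f').obj W := show f' z ∈ W from hzy.symm ▸ hyW
      obtain ⟨h', eq⟩ := germ_bcHom sq F s z (leOfHom ((Opens.map f').map i1) hzW)
      refine (hA _).2 ⟨h', h', (bijective_σ g' F z).1 ?_⟩
      refine eq.symm.trans (((germ_map (leOfHom ((Opens.map f').map i1)) z hzW _).symm.trans
        ((congrArg (germ ((CohTop.pull g').obj F) z hzW) e).trans ?_)).trans
        ((congrArg (σ g' F z) (map_zero _)).trans (map_zero _)).symm)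
      exact (congrArg (germ ((CohTop.pull g').obj F) z hzW) (map_zero _)).trans (map_zero _)
    let V' : Opens Y := V ⊓ ⟨(f '' (A : Set X)ᶜ)ᶜ, (hf.isClosedMap _ A.isOpen.isClosed_compl).isOpen_compl⟩
    have hy' : g y ∈ V' := ⟨hy, fun ⟨x, hxA, hxy⟩ => hxA (hfib x hxy)⟩
    rw [← germ_map (inf_le_left : V' ≤ V) (g y) hy' s]
    refine (congrArg (σ g _ y) ?_).trans (map_zero _)
    refine (congrArg (germ ((CohTop.push f).obj F) (g y) hy') ?_).trans (map_zero _)
    refine TopCat.Presheaf.section_ext F _ _ _ fun x hx => ?_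
    obtain ⟨h1, h2, eA⟩ := (hA x).1 (by_contra fun hxA => hx.2 ⟨x, hxA, rfl⟩)
    exact ((germ_map (leOfHom ((Opens.map f).map (homOfLE (inf_le_left : V' ≤ V)))) x hx s).trans
      (eA.trans (map_zero _))).trans (map_zero _).symm
  haveI : Epi (bcMap sq F) := epi_of_st _ fun y b => by
    obtain ⟨W, hyW, t, rfl⟩ := exists_germ y b
    obtain ⟨U, s, hr⟩ := exists_rel_on F (g' := g') (hf'.isCompact_preimage (isCompact_singleton (x := y)))
      (fun z hz z' hz' hne => hs _ _ (by rw [hw, hw]; exact congrArg g (hz.trans hz'.symm))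
        fun e => hne (eq_of_maps sq e (hz.trans hz'.symm)))
      (O := (Opens.map f').obj W) (fun z hz => show f' z ∈ W from (hz : f' z = y).symm ▸ hyW) t
    let V : Opens Y := ⟨(f '' (U : Set X)ᶜ)ᶜ, (hf.isClosedMap _ U.isOpen.isClosed_compl).isOpen_compl⟩
    have hy : g y ∈ V := fun ⟨x, hxU, hxy⟩ => by
      obtain ⟨z, rfl, hzy⟩ := exists_fibre_point sq x y hxy
      exact hxU (hr z hzy).2.1
    let s' : F.obj.obj (op ((Opens.map f).obj V)) :=
      F.obj.map (homOfLE (fun x hx => by_contra fun hxU => hx ⟨x, hxU, rfl⟩ : (Opens.map f).obj V ≤ U)).op s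
    refine ⟨σ g _ y (germ ((CohTop.push f).obj F) (g y) hy s'), ?_⟩
    rw [st_bcMap]
    obtain ⟨A, -, hA⟩ := exists_open_eq (G := (CohTop.pull g').obj F)
      (U := (Opens.map f').obj ((Opens.map g).obj V)) ((bcHom sq F).hom.app (op V) s') t
    let W' : Opens Y' := ⟨(f' '' (A : Set X')ᶜ)ᶜ, (hf'.isClosedMap _ A.isOpen.isClosed_compl).isOpen_compl⟩
    have hyW' : y ∈ W' := fun ⟨z, hzA, hzy⟩ => hzA (by
      obtain ⟨h1, h2, e⟩ := hr z hzy
      have hzV : z ∈ (Opens.map f').obj ((Opens.map g).obj V) := show g (f' z) ∈ V from hzy.symm ▸ hy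
      obtain ⟨h', eq⟩ := germ_bcHom sq F s' z hzV
      exact (hA z).2 ⟨hzV, h1, eq.trans ((congrArg (σ g' F z) (germ_map _ (g' z) h' s)).trans e.symm)⟩)
    let W'' : Opens Y' := ((Opens.map g).obj V ⊓ W) ⊓ W'
    have hy'' : y ∈ W'' := ⟨⟨hy, hyW⟩, hyW'⟩
    rw [← germ_map (show W'' ≤ (Opens.map g).obj V from inf_le_left.trans inf_le_left) y hy'',
      ← germ_map (show W'' ≤ W from inf_le_left.trans inf_le_right) y hy'' t]
    refine congrArg (germ ((CohTop.push f').obj ((CohTop.pull g').obj F)) y hy'') ?_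
    refine TopCat.Presheaf.section_ext ((CohTop.pull g').obj F) _ _ _ fun z hz => ?_
    obtain ⟨h1, h2, e⟩ := (hA z).1 (by_contra fun hzA => hz.2 ⟨z, hzA, rfl⟩)
    exact ((germ_map (leOfHom ((Opens.map f').map (homOfLE (show W'' ≤ (Opens.map g).obj V from inf_le_left.trans inf_le_left)))) z hz _).trans e).trans
      (germ_map (leOfHom ((Opens.map f').map (homOfLE (show W'' ≤ W from inf_le_left.trans inf_le_right)))) z hz t).symm
  exact isIso_of_mono_of_epi _

end Zero

theorem nonempty_bc (sq : IsPullback g' f' f g) (hf : IsProperMap f) (hs : FibSep f) (p : ℕ) :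
    ∀ F : CohTop.Ab X, Nonempty ((CohTop.pull g).obj ((CohTop.Rpush f p).obj F) ≅
      (CohTop.Rpush f' p).obj ((CohTop.pull g').obj F)) := by
  haveI := CohTop16.preservesFiniteLimits_pull g'
  haveI := CohTop16.preservesFiniteColimits_pull g'
  haveI := CohTop16.additive_pull g'
  haveI := CohTop16.preservesFiniteColimits_pull g
  haveI : ∀ {A B : TopCat.{u}} (k : A ⟶ B), PreservesFiniteLimits (CohTop.push k) := fun k =>
    haveI := (CohTop16.pullAdj k).rightAdjoint_preservesLimits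
    inferInstance
  induction p with
  | zero =>
    intro F
    haveI := isIso_bcMap sq hf hs F
    exact ⟨(CohTop.pull g).mapIso ((CohTop.push f).rightDerivedZeroIsoSelf.app F) ≪≫ asIso (bcMap sq F) ≪≫
      ((CohTop.push f').rightDerivedZeroIsoSelf.app _).symm⟩
  | succ p ih =>
    intro F
    have hS := injSC_shortExact F
    have hS' := hS.map_of_exact (CohTop.pull g')
    have hI : Injective (injSC F).X₂ := inferInstanceAs (Injective (Injective.under F))
    have hz : ∀ n, IsZero ((CohTop.Rpush f (n + 1)).obj (injSC F).X₂) := fun n => by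
      haveI := hI
      exact (CohTop.push f).isZero_rightDerived_obj_injective_succ n _
    have hz' : ∀ n, IsZero ((CohTop.Rpush f' (n + 1)).obj ((injSC F).map (CohTop.pull g')).X₂) := fun n =>
      isZero_rpush_pull_injective sq hf hs _ hI n
    cases p with
    | zero =>
      obtain ⟨e⟩ := nonempty_rightDerived_one_iso_cokernel (CohTop.push f) hS (hz 0)
      obtain ⟨e'⟩ := nonempty_rightDerived_one_iso_cokernel (CohTop.push f') hS' (hz' 0)
      haveI := isIso_bcMap sq hf hs (injSC F).X₂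
      haveI := isIso_bcMap sq hf hs (injSC F).X₃
      exact ⟨(CohTop.pull g).mapIso e ≪≫ PreservesCokernel.iso (CohTop.pull g) _ ≪≫
        cokernel.mapIso _ ((CohTop.push f').map ((CohTop.pull g').map (injSC F).g))
          (asIso (bcMap sq _)) (asIso (bcMap sq _)) (bcMap_natural sq (injSC F).g) ≪≫ e'.symm⟩
    | succ k =>
      obtain ⟨e⟩ := nonempty_rightDerived_succ_iso (CohTop.push f) hS k (hz k) (hz (k + 1))
      obtain ⟨e'⟩ := nonempty_rightDerived_succ_iso (CohTop.push f') hS' k (hz' k) (hz' (k + 1))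
      obtain ⟨ei⟩ := ih (injSC F).X₃
      exact ⟨(CohTop.pull g).mapIso e ≪≫ ei ≪≫ e'.symm⟩

end Groth.Agent.SheafVan16
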