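import Groth.Agent.Lib.SheafVan16.Devissage
import Groth.Agent.Lib.CohFound.Colim
import Groth.Agent.Lib.CohFound.Bridge

/-! Vanishing above a degree as a class for devissage; reduction to extensions by zero. -/

universe u

open CategoryTheory TopologicalSpace Opposite CategoryTheory.Limits

set_option autoImplicit false
set_option linter.style.haveILetI false
set_option linter.unusedSectionVars false
set_option backward.isDefEq.respectTransparency false
set_option backward.isDefEq.respectTransparency.types false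

namespace Groth.Agent.SheafVan16

open Groth.Agent.CohFound Groth.Agent.GodTot16

variable {X : TopCat.{u}}

/-- Cohomology over `U` vanishes above degree `d`. -/
def Van (U : Opens X) (d : ℕ) (F : CohTop.Ab X) : Prop := ∀ p, d < p → Subsingleton (Hc F p U)

theorem van_X₁ {S : ShortComplex (CohTop.Ab X)} (hS : S.ShortExact) (U : Opens X) (p : ℕ)
    (h2 : Subsingleton (Hc S.X₂ (p + 1) U)) (h3 : Subsingleton (Hc S.X₃ p U)) :
    Subsingleton (Hc S.X₁ (p + 1) U) :=
  subsingleton_of_forall_eq 0 fun x => by
    obtain ⟨y, rfl⟩ := CohFound.exact₁ hS p U x (Subsingleton.elim _ _)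
    rw [Subsingleton.elim y 0, map_zero]

theorem van_X₂ {S : ShortComplex (CohTop.Ab X)} (hS : S.ShortExact) (U : Opens X) (p : ℕ)
    (h1 : Subsingleton (Hc S.X₁ p U)) (h3 : Subsingleton (Hc S.X₃ p U)) : Subsingleton (Hc S.X₂ p U) :=
  subsingleton_of_forall_eq 0 fun x => by
    obtain ⟨y, rfl⟩ := CohFound.exact₂ hS p U x (Subsingleton.elim _ _)
    rw [Subsingleton.elim y 0, map_zero]

theorem van_X₃ {S : ShortComplex (CohTop.Ab X)} (hS : S.ShortExact) (U : Opens X) (p : ℕ)
    (h1 : Subsingleton (Hc S.X₁ (p + 1) U)) (h2 : Subsingleton (Hc S.X₂ p U)) : Subsingleton (Hc S.X₃ p U) :=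
  subsingleton_of_forall_eq 0 fun x => by
    obtain ⟨y, rfl⟩ := CohFound.exact₃ hS p U x (Subsingleton.elim _ _)
    rw [Subsingleton.elim y 0, map_zero]

theorem van_of_iso {U : Opens X} {d : ℕ} {F G : CohTop.Ab X} (e : F ≅ G) (h : Van U d F) : Van U d G :=
  fun p hp => subsingleton_of_forall_eq 0 fun x => by
    haveI := h p hp
    rw [← mp_id G p U x, ← e.inv_hom_id, mp_comp, Subsingleton.elim (mp e.inv p U x) 0, map_zero]

theorem van_of_isZero {U : Opens X} {d : ℕ} {F : CohTop.Ab X} (h : IsZero F) : Van U d F :=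
  fun p _ => subsingleton_of_forall_eq 0 fun x => by
    rw [← mp_id F p U x, h.eq_of_src (𝟙 F) 0, mp_zero]

theorem closed_van [PrespectralSpace X] {U : Opens X} (hU : IsCompact (U : Set X))
    (hq : IsQuasiSeparated (U : Set X)) (d : ℕ) : Closed (Van U d) where
  zero F h := van_of_isZero h
  iso e h := van_of_iso e h
  ext S hS h1 h3 p hp := van_X₂ hS U p (h1 p hp) (h3 p hp)
  quot S hS h1 h2 p hp := van_X₃ hS U p (h1 (p + 1) (by omega)) (h2 p hp)
  colim ι _ _ _ D c hc h p hp := subsingleton_of_forall_eq 0 fun x => by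
    obtain ⟨j, η, rfl⟩ := CohFound.exists_rep_hc hc p hU hq x
    haveI := h j p hp
    rw [Subsingleton.elim η 0, map_zero]

/-- The model of the constant sheaf. -/
noncomputable def univModel (X : TopCat.{u}) : Model (Set.univ : Set X) where
  G := freeU ⊤
  q := 𝟙 _
  surj x a := ⟨a, st_id x a⟩
  inj x _ := fun a b h => by rw [← st_id x a, ← st_id x b]; exact h
  zero x hx := absurd (Set.mem_univ x) hx

theorem univ_sc_one (V : Opens X) : (univModel X).sc V 1 = incFree le_top := by
  rw [Model.sc, Nat.cast_one, one_zsmul]; exact Category.comp_id _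

theorem nonempty_image_univ_sc (V : Opens X) : Nonempty (freeU V ≅ Abelian.image ((univModel X).sc V 1)) :=
  nonempty_iso_of_rng_eq (incFree (le_top : V ≤ ⊤)) (Abelian.image.ι _) fun x => by
    rw [rng_image_ι, univ_sc_one]

/-- Reduction to extensions by zero of the constant sheaf from quasi-compact opens. -/
theorem van_of_freeU [CompactSpace X] [PrespectralSpace X] [QuasiSeparatedSpace X] (d : ℕ)
    (h : ∀ V : Opens X, IsCompact (V : Set X) → Van ⊤ d (freeU V)) (F : CohTop.Ab X) : Van ⊤ d F := by
  refine mem_of_supported (univModel X) (closed_van (by simpa using isCompact_univ) (IsQuasiSeparated.of_quasiSeparatedSpace _) d)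
    (fun V => IsCompact (V : Set X)) (fun V W hV hW => ?_) (fun V hV => ?_) (fun x W hx => ?_) F
    (fun x hx => absurd (Set.mem_univ x) hx)
  · exact QuasiSeparatedSpace.inter_isCompact (V : Set X) (W : Set X) V.isOpen hV W.isOpen hW
  · exact van_of_iso (nonempty_image_univ_sc V).some (h V hV)
  · obtain ⟨T, ⟨hTo, hTc⟩, hxT, hTW⟩ :=
      (PrespectralSpace.isTopologicalBasis (X := X)).exists_subset_of_mem_open hx W.isOpen
    exact ⟨⟨T, hTo⟩, hTc, hxT, hTW⟩

end Groth.Agent.SheafVan16
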