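import Groth.Agent.Lib.SheafVan16.Stalk
import Mathlib.CategoryTheory.Abelian.GrothendieckCategory.Subobject
import Mathlib.Data.Nat.Factorization.Basic

/-! Devissage for abelian sheaves supported on a subset: reduction to the sheaves generated by one section. -/

universe u

open CategoryTheory TopologicalSpace Opposite CategoryTheory.Limits

set_option autoImplicit false
set_option linter.style.haveILetI false
set_option linter.unusedSectionVars false
set_option backward.isDefEq.respectTransparency false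
set_option backward.isDefEq.respectTransparency.types false

namespace Groth.Agent.SheafVan16

open Groth.Agent.CohFound Groth.Agent.GodTot16
open scoped Classical

set_option maxHeartbeats 400000

variable {X : TopCat.{u}}

/-- A class of sheaves suitable for devissage. -/
structure Closed (C : CohTop.Ab X → Prop) : Prop where
  zero : ∀ F, IsZero F → C F
  iso : ∀ {F G}, (F ≅ G) → C F → C G
  ext : ∀ S : ShortComplex (CohTop.Ab X), S.ShortExact → C S.X₁ → C S.X₃ → C S.X₂
  quot : ∀ S : ShortComplex (CohTop.Ab X), S.ShortExact → C S.X₁ → C S.X₂ → C S.X₃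
  colim : ∀ (ι : Type u) [Preorder ι] [IsDirected ι (· ≤ ·)] [Nonempty ι] (D : ι ⥤ CohTop.Ab X) (c : Cocone D),
    IsColimit c → (∀ i, C (D.obj i)) → C c.pt

/-- A model of the constant sheaf on `Z`. -/
structure Model (Z : Set X) where
  G : CohTop.Ab X
  q : freeU (⊤ : Opens X) ⟶ G
  surj : ∀ x, Function.Surjective (st q x)
  inj : ∀ x ∈ Z, Function.Injective (st q x)
  zero : ∀ x ∉ Z, ∀ a : (stk x).obj G, a = 0

variable {Z : Set X} (M : Model Z)

/-- The stalk generator. -/
noncomputable def Model.g (x : X) : (stk x).obj M.G := st M.q x (gx ⊤ x (Set.mem_univ x))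

theorem Model.exists_zsmul (x : X) (a : (stk x).obj M.G) : ∃ n : ℤ, a = n • M.g x := by
  obtain ⟨b, rfl⟩ := M.surj x a
  obtain ⟨n, rfl⟩ := (exists_eq_zsmul_gx ⊤ x b).1 (Set.mem_univ x)
  exact ⟨n, map_zsmul _ _ _⟩

theorem Model.zsmul_eq_zero {x : X} (hx : x ∈ Z) {n : ℤ} (h : n • M.g x = 0) : n = 0 :=
  eq_zero_of_zsmul_gx ⊤ x (Set.mem_univ x) n (M.inj x hx (((map_zsmul _ _ _).trans h).trans (map_zero _).symm))

theorem Model.g_eq_zero {x : X} (hx : x ∉ Z) : M.g x = 0 := M.zero x hx _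

/-- The section `n` over `V`. -/
noncomputable def Model.sc (V : Opens X) (n : ℕ) : freeU V ⟶ M.G := (n : ℤ) • (incFree (le_top : V ≤ ⊤) ≫ M.q)

theorem Model.st_sc (V : Opens X) (n : ℕ) (x : X) (hx : x ∈ V) :
    st (M.sc V n) x (gx V x hx) = (n : ℤ) • M.g x := by
  rw [Model.sc, st_zsmul, st_comp, st_incFree]; rfl

/-- The greatest common divisor of the entries through `x`. -/
noncomputable def N (L : List (Opens X × ℕ)) (x : X) : ℕ :=
  L.foldr (fun p m => if x ∈ p.1 then Nat.gcd p.2 m else m) 0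

theorem N_cons (p : Opens X × ℕ) (L : List (Opens X × ℕ)) (x : X) :
    N (p :: L) x = if x ∈ p.1 then Nat.gcd p.2 (N L x) else N L x := rfl

theorem lcm_gcd (n a b : ℕ) : Nat.lcm n (Nat.gcd a b) = Nat.gcd (Nat.lcm n a) (Nat.lcm n b) := by
  rcases Nat.eq_zero_or_pos n with hn | hn
  · simp [hn]
  rcases Nat.eq_zero_or_pos a with ha | ha
  · simp [ha]
  rcases Nat.eq_zero_or_pos b with hb | hb
  · simp [hb]
  have hab : Nat.gcd a b ≠ 0 := (Nat.gcd_pos_of_pos_left b ha).ne'
  have h1 := Nat.lcm_ne_zero hn.ne' ha.ne'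
  have h2 := Nat.lcm_ne_zero hn.ne' hb.ne'
  refine Nat.eq_of_factorization_eq (Nat.lcm_ne_zero hn.ne' hab) (Nat.gcd_pos_of_pos_left _ (Nat.pos_of_ne_zero h1)).ne' fun p => ?_
  rw [Nat.factorization_lcm hn.ne' hab, Nat.factorization_gcd h1 h2, Nat.factorization_gcd ha.ne' hb.ne',
    Nat.factorization_lcm hn.ne' ha.ne', Nat.factorization_lcm hn.ne' hb.ne']
  simp only [Finsupp.sup_apply, Finsupp.inf_apply]
  exact max_min_distrib_left _ _ _

/-- The intersection list. -/
noncomputable def meetL (V : Opens X) (n : ℕ) (L : List (Opens X × ℕ)) : List (Opens X × ℕ) :=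
  L.map fun p => (V ⊓ p.1, Nat.lcm n p.2)

theorem N_meetL (V : Opens X) (n : ℕ) (L : List (Opens X × ℕ)) (x : X) :
    N (meetL V n L) x = if x ∈ V then Nat.lcm n (N L x) else 0 := by
  induction L with
  | nil => simp [meetL, N]
  | cons p L ih =>
    simp only [meetL, List.map_cons] at ih ⊢
    rw [N_cons, N_cons, ih]
    by_cases hV : x ∈ V <;> by_cases hp : x ∈ p.1 <;> simp [hV, hp, lcm_gcd]

/-- The stalks of the subsheaf generated by a list. -/
noncomputable def Model.R (L : List (Opens X × ℕ)) (x : X) : AddSubgroup ((stk x).obj M.G) :=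
  AddSubgroup.zmultiples ((N L x : ℤ) • M.g x)

theorem Model.R_nil (x : X) : M.R [] x = ⊥ := by simp [Model.R, N]

theorem Model.rng_sc (V : Opens X) (n : ℕ) (x : X) : rng (M.sc V n) x = M.R [(V, n)] x := by
  by_cases hx : x ∈ V
  · rw [Model.R, N_cons, if_pos hx]
    simp only [N, List.foldr_nil, Nat.gcd_zero_right]
    refine le_antisymm ?_ (AddSubgroup.zmultiples_le_of_mem ⟨gx V x hx, M.st_sc V n x hx⟩)
    rintro b ⟨a, rfl⟩
    obtain ⟨m, rfl⟩ := (exists_eq_zsmul_gx V x a).1 hx
    rw [map_zsmul, M.st_sc]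
    exact AddSubgroup.zsmul_mem_zmultiples _ m
  · rw [Model.R, N_cons, if_neg hx]
    simp only [N, List.foldr_nil, Nat.cast_zero, zero_zsmul, AddSubgroup.zmultiples_zero_eq_bot, eq_bot_iff]
    rintro b ⟨a, rfl⟩
    rw [(exists_eq_zsmul_gx V x a).2 hx, map_zero]
    exact zero_mem _

theorem Model.R_cons (p : Opens X × ℕ) (L : List (Opens X × ℕ)) (x : X) :
    M.R (p :: L) x = rng (M.sc p.1 p.2) x ⊔ M.R L x := by
  rw [M.rng_sc, Model.R, Model.R, Model.R, N_cons, N_cons]
  by_cases hx : x ∈ p.1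
  · simp only [if_pos hx, N, List.foldr_nil, Nat.gcd_zero_right]
    refine le_antisymm (AddSubgroup.zmultiples_le_of_mem ?_) (sup_le (AddSubgroup.zmultiples_le_of_mem ?_)
      (AddSubgroup.zmultiples_le_of_mem ?_))
    · change (((Nat.gcd p.2 (N L x) : ℕ)) : ℤ) • M.g x ∈ _
      rw [Nat.gcd_eq_gcd_ab, add_zsmul, mul_comm (p.2 : ℤ), mul_comm ((N L x : ℕ) : ℤ), mul_zsmul, mul_zsmul]
      exact AddSubgroup.mem_sup.2 ⟨_, AddSubgroup.zsmul_mem_zmultiples _ _, _, AddSubgroup.zsmul_mem_zmultiples _ _, rfl⟩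
    · obtain ⟨k, hk⟩ := Nat.gcd_dvd_left p.2 (N L x)
      exact ⟨k, by simp only [smul_smul]; congr 1; rw [mul_comm]; exact_mod_cast hk.symm⟩
    · obtain ⟨k, hk⟩ := Nat.gcd_dvd_right p.2 (N L x)
      exact ⟨k, by simp only [smul_smul]; congr 1; rw [mul_comm]; exact_mod_cast hk.symm⟩
  · simp only [if_neg hx, N, List.foldr_nil]
    simp

theorem Model.R_eq_biSup (L : List (Opens X × ℕ)) (x : X) :
    M.R L x = ⨆ p ∈ L, rng (M.sc p.1 p.2) x := by
  induction L with
  | nil => simp [M.R_nil]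
  | cons p L ih => rw [M.R_cons, ih]; simp [iSup_or, iSup_sup_eq]

theorem Model.inf_eq (V : Opens X) (n : ℕ) (L : List (Opens X × ℕ)) (x : X) :
    M.R [(V, n)] x ⊓ M.R L x = M.R (meetL V n L) x := by
  simp only [Model.R, N_meetL, N_cons]
  by_cases hV : x ∈ V
  · simp only [if_pos hV, N, List.foldr_nil, Nat.gcd_zero_right]
    change _ ⊓ AddSubgroup.zmultiples ((N L x : ℤ) • M.g x) =
      AddSubgroup.zmultiples ((Nat.lcm n (N L x) : ℤ) • M.g x)
    refine le_antisymm ?_ (le_inf (AddSubgroup.zmultiples_le_of_mem ?_) (AddSubgroup.zmultiples_le_of_mem ?_))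
    · rintro b ⟨⟨k, hk⟩, ⟨l, hl⟩⟩
      by_cases hx : x ∈ Z
      · have e : k * (n : ℤ) = l * (N L x : ℤ) := by
          refine sub_eq_zero.1 (M.zsmul_eq_zero hx ?_)
          rw [sub_zsmul, mul_zsmul, mul_zsmul]
          exact (sub_eq_add_neg _ _).symm.trans (sub_eq_zero.2 (hk.trans hl.symm))
        obtain ⟨c, hc⟩ : ((Nat.lcm n (N L x) : ℕ) : ℤ) ∣ k * (n : ℤ) :=
          Int.natCast_dvd.2 (Nat.lcm_dvd
            (Int.natCast_dvd.1 (Dvd.intro_left _ rfl)) (Int.natCast_dvd.1 (Dvd.intro_left _ e.symm)))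
        refine ⟨c, ?_⟩
        rw [← hk]
        simp only [smul_smul]
        rw [hc, mul_comm]
      · refine ⟨0, ?_⟩
        simp [← hk, M.g_eq_zero hx]
    · obtain ⟨k, hk⟩ := Nat.dvd_lcm_left n (N L x)
      exact ⟨k, by simp only [smul_smul]; congr 1; rw [mul_comm]; exact_mod_cast hk.symm⟩
    · obtain ⟨k, hk⟩ := Nat.dvd_lcm_right n (N L x)
      exact ⟨k, by simp only [smul_smul]; congr 1; rw [mul_comm]; exact_mod_cast hk.symm⟩
  · simp [hV, N]

theorem Model.mono_zsmul {n : ℕ} (hn : n ≠ 0) : Mono ((n : ℤ) • 𝟙 M.G) :=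
  mono_of_st _ fun x a ha => by
    rw [st_zsmul, st_id] at ha
    by_cases hx : x ∈ Z
    · obtain ⟨m, rfl⟩ := M.exists_zsmul x a
      rw [← mul_zsmul] at ha
      rcases mul_eq_zero.1 (M.zsmul_eq_zero hx ha) with h | h
      · exact absurd (by exact_mod_cast h) hn
      · rw [h, zero_zsmul]
    · exact M.zero x hx a

theorem st_neg {F G : CohTop.Ab X} (φ : F ⟶ G) (x : X) (a : (stk x).obj F) : st (-φ) x a = -st φ x a := by
  rw [st, Functor.map_neg]; rfl

section Gen

variable {F : CohTop.Ab X}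

theorem exists_sub {T : Type u} [Finite T] (P : T → CohTop.Ab X) (f : ∀ t, P t ⟶ F) :
    ∃ (A : CohTop.Ab X) (a : A ⟶ F), Mono a ∧ ∀ x, rng a x = ⨆ t, rng (f t) x := by
  cases nonempty_fintype T
  refine ⟨_, Abelian.image.ι (Sigma.desc f), inferInstance, fun x => (rng_image_ι _ x).trans (le_antisymm ?_ ?_)⟩
  · have e : Sigma.desc f = ∑ t, Sigma.π P t ≫ f t := Sigma.hom_ext _ _ fun t => by
      rw [Sigma.ι_desc, Preadditive.comp_sum, Finset.sum_eq_single t
        (fun b _ hb => by rw [Sigma.ι_π_of_ne_assoc P hb.symm, zero_comp]) (fun h => absurd (Finset.mem_univ _) h),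
        Sigma.ι_π_eq_id_assoc]
    rintro b ⟨a, rfl⟩
    rw [e]
    have h : ∀ s : Finset T, st (∑ t ∈ s, Sigma.π P t ≫ f t) x a ∈ ⨆ t, rng (f t) x := by
      intro s
      induction s using Finset.induction_on with
      | empty => rw [Finset.sum_empty, st_zero]; exact zero_mem _
      | insert t s ht ih =>
        rw [Finset.sum_insert ht, st_add, st_comp]
        exact add_mem ((le_iSup (fun t => rng (f t) x) t) ⟨_, rfl⟩) ih
    exact h _
  · exact iSup_le fun t => (congrArg (fun g => rng g x) (Sigma.ι_desc f t).symm).le.trans (rng_comp_le _ _ x)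

theorem mem_of_generated {C : CohTop.Ab X → Prop} (hC : Closed C) {T : Type u} (P : T → CohTop.Ab X)
    (f : ∀ t, P t ⟶ F) (hgen : ∀ x (a : (stk x).obj F), a ∈ ⨆ t, rng (f t) x)
    (hfin : ∀ (S : Finset T) (A : CohTop.Ab X) (a : A ⟶ F), Mono a → (∀ x, rng a x = ⨆ t ∈ S, rng (f t) x) → C A) :
    C F := by
  have h : ∀ S : Finset T, ∃ (A : CohTop.Ab X) (a : A ⟶ F), Mono a ∧ ∀ x, rng a x = ⨆ t ∈ S, rng (f t) x := fun S => by
    obtain ⟨A, a, ha, h⟩ := exists_sub (fun t : S => P t.1) fun t => f t.1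
    exact ⟨A, a, ha, fun x => by rw [h x]; exact iSup_subtype (p := fun t => t ∈ S) (f := fun t => rng (f t.1) x)⟩
  choose A a ha hr using h
  have hl : ∀ {S S' : Finset T}, (S ⟶ S') → ∃ l : A S ⟶ A S', l ≫ a S' = a S := fun {S S'} e =>
    haveI := ha S'
    exists_lift _ _ fun x => by
      rw [hr, hr]
      exact biSup_mono fun t ht => leOfHom e ht
  choose l hl using @hl
  let D : Finset T ⥤ MonoOver F :=
    { obj := fun S => haveI := ha S; MonoOver.mk (a S)
      map := fun {S S'} e => MonoOver.homMk (l e) (hl e) }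
  let D' : Finset T ⥤ CohTop.Ab X := D ⋙ MonoOver.forget _ ⋙ Over.forget _
  let s : Cocone D' := Cocone.mk F
    { app := fun S => a S
      naturality := fun S S' e => (hl e).trans (Category.comp_id _).symm }
  let c := colimit.cocone D'
  let δ : c.pt ⟶ F := (colimit.isColimit D').desc s
  have hδ : ∀ S, c.ι.app S ≫ δ = a S := fun S => (colimit.isColimit D').fac s S
  haveI : Mono δ := IsGrothendieckAbelian.mono_of_isColimit_monoOver D (colimit.isColimit D') δ hδ
  haveI : Epi δ := epi_of_st δ fun x b => by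
    suffices b ∈ rng δ x from this
    refine AddSubgroup.iSup_induction _ (C := fun b => b ∈ rng δ x) (hgen x b) (fun t y hy => ?_)
      (zero_mem _) fun _ _ => add_mem
    have : y ∈ rng (a {t}) x := by rw [hr]; simpa using hy
    rw [← hδ {t}] at this
    exact rng_comp_le _ _ x this
  haveI : IsIso δ := isIso_of_mono_of_epi δ
  exact hC.iso (asIso δ) (hC.colim (Finset T) D' c (colimit.isColimit D') fun S => hfin S _ (a S) (ha S) (hr S))

/-- The short exact sequence of a monomorphism. -/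
theorem shortExact_cok {A B : CohTop.Ab X} (i : A ⟶ B) [Mono i] :
    (ShortComplex.mk i (cokernel.π i) (cokernel.condition i)).ShortExact :=
  { exact := ShortComplex.exact_cokernel i }

theorem shortExact_ker {A B : CohTop.Ab X} (p : A ⟶ B) [Epi p] :
    (ShortComplex.mk (kernel.ι p) p (kernel.condition p)).ShortExact :=
  { exact := ShortComplex.exact_of_f_is_kernel _ (kernelIsKernel p) }

end Gen

variable {C : CohTop.Ab X → Prop} (hC : Closed C) (B : Opens X → Prop) (hB : ∀ V W, B V → B W → B (V ⊓ W))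
  (hpiece : ∀ V, B V → C (Abelian.image (M.sc V 1)))

include hC hB hpiece in
theorem mem_of_list : ∀ (k : ℕ) (L : List (Opens X × ℕ)), L.length ≤ k → (∀ p ∈ L, B p.1) →
    ∀ (A : CohTop.Ab X) (a : A ⟶ M.G) [Mono a], (∀ x, rng a x = M.R L x) → C A := by
  intro k
  induction k with
  | zero =>
    intro L hL _ A a _ ha
    obtain rfl : L = [] := List.length_eq_zero_iff.1 (Nat.le_zero.1 hL)
    refine hC.zero _ (isZero_of_st fun x b => st_injective a x ?_)
    have : st a x b ∈ (⊥ : AddSubgroup _) := by rw [← M.R_nil x, ← ha x]; exact ⟨b, rfl⟩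
    rw [map_zero]
    exact this
  | succ k ih =>
    intro L hL hLB A a _ ha
    rcases L with _ | ⟨⟨V, n⟩, L⟩
    · exact ih [] (Nat.zero_le _) (fun p hp => (List.not_mem_nil hp).elim) A a ha
    have hlen : L.length ≤ k := Nat.le_of_succ_le_succ hL
    have hVB : B V := hLB _ List.mem_cons_self
    have hLB' : ∀ p ∈ L, B p.1 := fun p hp => hLB p (List.mem_cons_of_mem _ hp)
    by_cases hn : n = 0
    · refine ih L hlen hLB' A a fun x => ?_
      rw [ha x, hn, Model.R, Model.R, N_cons]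
      split_ifs <;> simp
    haveI := M.mono_zsmul hn
    let j : Abelian.image (M.sc V 1) ⟶ M.G := Abelian.image.ι (M.sc V 1) ≫ ((n : ℤ) • 𝟙 M.G)
    have hj : ∀ x, rng j x = M.R [(V, n)] x := fun x => by
      rw [← M.rng_sc, ← rng_epi_comp (Abelian.factorThruImage (M.sc V 1)) j]
      congr 1
      refine (Category.assoc _ _ _).symm.trans ((congrArg (· ≫ _) (Abelian.image.fac (M.sc V 1))).trans ?_)
      simp only [Model.sc, Preadditive.comp_zsmul, Category.comp_id, Nat.cast_one, one_zsmul]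
    obtain ⟨A', a', _, ha'⟩ := exists_sub (fun t : ULift.{u} (Fin L.length) => freeU (L.get t.down).1)
      fun t => M.sc (L.get t.down).1 (L.get t.down).2
    have hA' : ∀ x, rng a' x = M.R L x := fun x => by
      rw [ha' x, M.R_eq_biSup]
      refine le_antisymm (iSup_le fun t => le_iSup₂_of_le (L.get t.down) (List.get_mem _ _) le_rfl) (iSup₂_le fun p hp => ?_)
      obtain ⟨t, rfl⟩ := List.mem_iff_get.1 hp
      exact le_iSup (fun t : ULift.{u} (Fin L.length) => rng (M.sc (L.get t.down).1 (L.get t.down).2) x) ⟨t⟩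
    have hRc : ∀ x, M.R ((V, n) :: L) x = rng (M.sc V n) x ⊔ M.R L x := M.R_cons (V, n) L
    obtain ⟨l, hl⟩ := exists_lift a' a fun x => by rw [hA' x, ha x, hRc]; exact le_sup_right
    haveI : Mono (l ≫ a) := by rw [hl]; infer_instance
    haveI : Mono l := mono_of_mono l a
    obtain ⟨lj, hlj⟩ := exists_lift j a fun x => by rw [ha x, hRc, M.rng_sc, hj x]; exact le_sup_left
    let e := lj ≫ cokernel.π l
    haveI : Epi e := epi_of_st e fun x z => by
      obtain ⟨b, rfl⟩ := st_surjective (cokernel.π l) x z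
      have hb : st a x b ∈ rng j x ⊔ rng a' x := by
        rw [hj, hA', ← M.rng_sc, ← hRc, ← ha]; exact ⟨b, rfl⟩
      obtain ⟨_, ⟨u', rfl⟩, _, ⟨v, rfl⟩, h⟩ := AddSubgroup.mem_sup.1 hb
      refine ⟨u', ?_⟩
      have hbe : b = st lj x u' + st l x v := st_injective a x (by
        rw [map_add, ← st_comp, ← st_comp, hlj, hl, h])
      rw [hbe, map_add, ← st_comp, ← st_comp, cokernel.condition, st_zero, add_zero]
    haveI : Mono j := mono_comp _ _
    have hK : C (kernel e) := ih (meetL V n L) (by simpa [meetL] using hlen) (fun p hp => by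
        simp only [meetL, List.mem_map] at hp
        obtain ⟨q, hq, rfl⟩ := hp
        exact hB _ _ hVB (hLB' q hq)) _ (kernel.ι e ≫ j) fun x => by
      rw [← M.inf_eq, ← hj, ← hA']
      refine le_antisymm (le_inf (rng_comp_le _ _ x) ?_) ?_
      · rintro y ⟨c, rfl⟩
        have hc : st (cokernel.π l) x (st lj x (st (kernel.ι e) x c)) = 0 := by
          rw [← st_comp, ← st_comp, kernel.condition, st_zero]
        obtain ⟨d, hd⟩ := st_exact (shortExact_cok l).exact x _ hc
        exact ⟨d, by rw [← hl, st_comp]; erw [hd]; rw [← st_comp, hlj]; simp only [j, st_comp]⟩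
      · rintro y ⟨⟨c, rfl⟩, ⟨d, hd⟩⟩
        have h1 : st l x d = st lj x c := st_injective a x (by rw [← st_comp, ← st_comp, hl, hlj, hd])
        obtain ⟨w, hw⟩ := st_exact (shortExact_ker e).exact x c (show st e x c = 0 by
          rw [st_comp, ← h1, ← st_comp, cokernel.condition, st_zero])
        exact ⟨w, by rw [st_comp]; erw [hw]⟩
    have hQ : C (cokernel l) := hC.quot _ (shortExact_ker e) hK (hpiece V hVB)
    exact hC.ext _ (shortExact_cok l) (ih L hlen hLB' A' a' hA') hQ

include hC hB hpiece in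
/-- Subsheaves of the model are in the class. -/
theorem mem_of_sub (hbasis : ∀ (x : X) (W : Opens X), x ∈ W → ∃ V, B V ∧ x ∈ V ∧ V ≤ W)
    {K : CohTop.Ab X} (k : K ⟶ M.G) [Mono k] : C K := by
  let T := {p : Opens X × ULift.{u} ℕ // B p.1 ∧ ∃ l, l ≫ k = M.sc p.1 p.2.down}
  choose l hl using fun t : T => t.2.2
  refine mem_of_generated hC (T := T) (fun t => freeU t.1.1) l (fun x a => ?_) fun S A a _ ha => ?_
  · obtain ⟨U, hxU, s, rfl⟩ := exists_germ x a
    obtain ⟨m, hm⟩ := M.exists_zsmul x (st k x (germ K x hxU s))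
    have hgV : ∀ (V : Opens X) (hx : x ∈ V), M.g x =
        germ M.G x hx (freeHomAddEquiv V M.G (incFree le_top ≫ M.q)) := fun V hx => by
      rw [← st_freeHom, st_comp, st_incFree]; rfl
    have h2 : germ M.G x hxU (k.hom.app (op U) s) =
        germ M.G x hxU (m • freeHomAddEquiv U M.G (incFree le_top ≫ M.q)) := by
      rw [← st_germ, hm]
      exact ((map_zsmul (TopCat.Presheaf.germ M.G.obj U x hxU).hom m _).trans (congrArg (m • ·) (hgV U hxU).symm)).symm
    obtain ⟨W, hxW, i1, i2, e⟩ := TopCat.Presheaf.germ_eq M.G.obj x hxU hxU _ _ h2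
    obtain ⟨V, hVB, hxV, hVW⟩ := hbasis x W hxW
    have hVU : V ≤ U := hVW.trans (leOfHom i1)
    let φ : freeU V ⟶ K := (freeHomAddEquiv V K).symm (K.obj.map (homOfLE hVU).op s)
    have hφk : φ ≫ k = m • (incFree le_top ≫ M.q) := by
      apply (freeHomAddEquiv V M.G).injective
      rw [map_zsmul, freeHomAddEquiv_comp, AddEquiv.apply_symm_apply]
      have e1 : freeHomAddEquiv V M.G (incFree le_top ≫ M.q) =
          M.G.obj.map (homOfLE hVU).op (freeHomAddEquiv U M.G (incFree le_top ≫ M.q)) := by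
        rw [← freeHomAddEquiv_map_comp]
        congr 1
        rw [← Category.assoc, ← Functor.map_comp, homOfLE_comp]
      rw [e1, ← map_zsmul]
      refine (NatTrans.naturality_apply k.hom (homOfLE hVU).op s).trans ?_
      have hi : ∀ (i : W ⟶ U) (y : M.G.obj.obj (op U)), M.G.obj.map (homOfLE hVU).op y =
          M.G.obj.map (homOfLE hVW).op (M.G.obj.map i.op y) := fun i y => by
        rw [← ConcreteCategory.comp_apply, ← Functor.map_comp]
        rfl
      exact ((hi i1 _).trans (congrArg (M.G.obj.map (homOfLE hVW).op) e)).trans (hi i2 _).symm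
    have hst : st φ x (gx V x hxV) = germ K x hxU s := by
      rw [st_freeHom, AddEquiv.apply_symm_apply]
      exact germ_map hVU x hxV s
    rw [← hst]
    rcases Int.natAbs_eq m with hm' | hm'
    · have hex : ∃ l, l ≫ k = M.sc V m.natAbs := ⟨φ, hφk.trans (by rw [Model.sc, ← hm'])⟩
      let t : T := ⟨(V, ⟨m.natAbs⟩), hVB, hex⟩
      have : l t = φ := (cancel_mono k).1 ((hl t).trans (hφk.trans (by rw [Model.sc, ← hm'])).symm)
      exact (le_iSup (fun t : T => rng (l t) x) t) ⟨gx V x hxV, by rw [this]⟩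
    · have he : (-φ) ≫ k = M.sc V m.natAbs := by
        rw [Preadditive.neg_comp, hφk, Model.sc, ← neg_zsmul]
        congr 1
        omega
      let t : T := ⟨(V, ⟨m.natAbs⟩), hVB, _, he⟩
      have : φ = -(l t) := by rw [(cancel_mono k).1 ((hl t).trans he.symm), neg_neg]
      refine neg_mem_iff.1 ((le_iSup (fun t : T => rng (l t) x) t) ⟨gx V x hxV, ?_⟩)
      rw [this, st_neg, neg_neg]
  · haveI : Mono (a ≫ k) := mono_comp _ _
    refine mem_of_list M hC B hB hpiece _ (S.toList.map fun t => (t.1.1, t.1.2.down)) le_rfl (fun p hp => ?_) A (a ≫ k) fun x => ?_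
    · simp only [List.mem_map] at hp
      obtain ⟨t, -, rfl⟩ := hp
      exact t.2.1
    · have hrng : ∀ {P : CohTop.Ab X} (f : P ⟶ K), rng (f ≫ k) x = (rng f x).map (st k x) := fun f => by
        ext y
        constructor
        · rintro ⟨c, rfl⟩; exact ⟨_, ⟨c, rfl⟩, (st_comp f k x c).symm⟩
        · rintro ⟨_, ⟨c, rfl⟩, rfl⟩; exact ⟨c, st_comp f k x c⟩
      rw [hrng, ha x, AddSubgroup.map_iSup, M.R_eq_biSup]
      simp only [AddSubgroup.map_iSup, ← hrng, hl, List.mem_map, Finset.mem_toList]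
      refine le_antisymm (iSup₂_le fun t ht => le_iSup₂_of_le _ ⟨t, ht, rfl⟩ le_rfl) (iSup₂_le ?_)
      rintro p ⟨t, ht, rfl⟩
      exact le_iSup₂_of_le t ht le_rfl

include hC hB hpiece in
/-- Sheaves supported on `Z` are in the class. -/
theorem mem_of_supported (hbasis : ∀ (x : X) (W : Opens X), x ∈ W → ∃ V, B V ∧ x ∈ V ∧ V ≤ W)
    (F : CohTop.Ab X) (hF : ∀ x ∉ Z, ∀ a : (stk x).obj F, a = 0) : C F := by
  let T := Σ V : {V : Opens X // B V}, (freeU V.1 ⟶ F)
  refine mem_of_generated hC (T := T) (fun t => freeU t.1.1) (fun t => t.2) (fun x a => ?_) fun S => ?_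
  · obtain ⟨U, hxU, s, rfl⟩ := exists_germ x a
    obtain ⟨V, hVB, hxV, hVU⟩ := hbasis x U hxU
    refine (le_iSup (fun t : T => rng t.2 x) ⟨⟨V, hVB⟩, (freeHomAddEquiv V F).symm (F.obj.map (homOfLE hVU).op s)⟩)
      ⟨gx V x hxV, ?_⟩
    rw [st_freeHom, AddEquiv.apply_symm_apply]
    exact germ_map hVU x hxV s
  have hcyc : ∀ (V : Opens X), B V → ∀ (Q : CohTop.Ab X) (φ : freeU V ⟶ Q), Epi φ →
      (∀ x ∉ Z, ∀ a : (stk x).obj Q, a = 0) → C Q := by
    intro V hV Q φ _ hQ
    let p := Abelian.factorThruImage (M.sc V 1)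
    have hz : kernel.ι p ≫ φ = 0 := hom_eq_zero _ fun x c => by
      rw [st_comp]
      by_cases hx : x ∈ Z
      · by_cases hxV : x ∈ V
        · obtain ⟨n, hn⟩ := (exists_eq_zsmul_gx V x (st (kernel.ι p) x c)).1 hxV
          have hks : kernel.ι p ≫ M.sc V 1 = 0 :=
            (congrArg (kernel.ι p ≫ ·) (Abelian.image.fac (M.sc V 1))).symm.trans
              ((kernel.condition_assoc p _).trans zero_comp)
          have h0 : st (M.sc V 1) x (st (kernel.ι p) x c) = 0 := by
            rw [← st_comp, hks, st_zero]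
          rw [hn, map_zsmul, M.st_sc, Nat.cast_one, one_zsmul] at h0
          rw [hn, M.zsmul_eq_zero hx h0, zero_zsmul, map_zero]
        · rw [(exists_eq_zsmul_gx V x (st (kernel.ι p) x c)).2 hxV, map_zero]
      · exact hQ x hx _
    let ψ : Abelian.image (M.sc V 1) ⟶ Q := (shortExact_ker p).exact.desc φ hz
    have hψ : p ≫ ψ = φ := (shortExact_ker p).exact.g_desc φ hz
    haveI : Epi (p ≫ ψ) := by rw [hψ]; infer_instance
    haveI : Epi ψ := epi_of_epi p ψ
    exact hC.quot _ (shortExact_ker ψ)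
      (mem_of_sub M hC B hB hpiece hbasis (kernel.ι ψ ≫ Abelian.image.ι (M.sc V 1))) (hpiece V hV)
  induction S using Finset.induction_on with
  | empty =>
    intro A a _ ha
    refine hC.zero _ (isZero_of_st fun x b => st_injective a x ?_)
    have : st a x b ∈ rng a x := ⟨b, rfl⟩
    rw [ha x] at this
    rw [map_zero]
    simpa using this
  | insert t S ht ih =>
    intro A a _ ha
    obtain ⟨A', a', _, ha'⟩ := exists_sub (fun s : S => freeU s.1.1.1) fun s => s.1.2
    have hA' : ∀ x, rng a' x = ⨆ s ∈ S, rng s.2 x := fun x => by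
      rw [ha' x]; exact iSup_subtype (p := fun s => s ∈ S) (f := fun s => rng s.1.2 x)
    have hins : ∀ x, rng a x = rng t.2 x ⊔ rng a' x := fun x => by
      rw [ha x, hA' x, Finset.iSup_insert]
    obtain ⟨l, hl⟩ := exists_lift a' a fun x => by rw [hins]; exact le_sup_right
    haveI : Mono (l ≫ a) := by rw [hl]; infer_instance
    haveI : Mono l := mono_of_mono l a
    obtain ⟨lt, hlt⟩ := exists_lift t.2 a fun x => by rw [hins]; exact le_sup_left
    refine hC.ext _ (shortExact_cok l) (ih A' a' inferInstance hA') (hcyc t.1.1 t.1.2 _ (lt ≫ cokernel.π l) ?_ ?_)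
    · refine epi_of_st _ fun x z => ?_
      obtain ⟨b, rfl⟩ := st_surjective (cokernel.π l) x z
      have hb : st a x b ∈ rng t.2 x ⊔ rng a' x := by rw [← hins]; exact ⟨b, rfl⟩
      obtain ⟨_, ⟨u', rfl⟩, _, ⟨v, rfl⟩, h⟩ := AddSubgroup.mem_sup.1 hb
      refine ⟨u', ?_⟩
      have hbe : b = st lt x u' + st l x v := st_injective a x (by
        rw [map_add, ← st_comp, ← st_comp, hlt, hl, h])
      rw [hbe, map_add, ← st_comp, ← st_comp, cokernel.condition, st_zero, add_zero]
    · intro x hx z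
      obtain ⟨b, rfl⟩ := st_surjective (cokernel.π l) x z
      have hb0 : b = 0 := st_injective a x ((hF x hx (st a x b)).trans (map_zero (st a x)).symm)
      rw [hb0, map_zero]

end Groth.Agent.SheafVan16
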