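import Groth.Agent.Lib.SheafVan16.NbhdColim
import Groth.Agent.Lib.SheafVan16.Spectral

/-! Subspaces of spectral spaces which are intersections of quasi-compact opens. -/

universe u

open CategoryTheory TopologicalSpace Opposite CategoryTheory.Limits

set_option autoImplicit false
set_option linter.style.haveILetI false
set_option linter.unusedSectionVars false
set_option backward.isDefEq.respectTransparency false
set_option backward.isDefEq.respectTransparency.types false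

namespace Groth.Agent.SheafVan16

open Groth.Agent.CohFound Groth.Agent.GodTot16

variable {X Z : TopCat.{u}} [SpectralSpace X]

/-- An embedding with image an intersection of quasi-compact opens. -/
structure QcInter (i : Z ⟶ X) : Prop where
  emb : Topology.IsEmbedding i
  sep : ∀ x ∉ Set.range i, ∃ V : Opens X, IsCompact (V : Set X) ∧ (∀ z, i z ∈ V) ∧ x ∉ V

theorem isCompact_of_cons {C : Set X} (h : IsClosed (cf X ⁻¹' C)) : IsCompact C := by
  have e : C = cf X '' (cf X ⁻¹' C) := (Set.image_preimage_eq C fun x => ⟨WithTopology.toTopology _ x, rfl⟩).symm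
  rw [e]
  exact h.isCompact.image (cf X).hom.continuous

variable {i : Z ⟶ X} (h : QcInter i)

include h

theorem QcInter.isClosed_range : IsClosed (cf X ⁻¹' Set.range i) := by
  rw [← isOpen_compl_iff, isOpen_iff_forall_mem_open]
  intro y hy
  obtain ⟨V, hV, hZV, hxV⟩ := h.sep (cf X y) hy
  exact ⟨(cf X ⁻¹' (V : Set X))ᶜ, Set.compl_subset_compl.2 (Set.preimage_mono (Set.range_subset_iff.2 hZV)),
    (isClosed_cons V.isOpen hV).isOpen_compl, hxV⟩

theorem QcInter.exists_qc_avoid {C : Set X} (hC : IsClosed (cf X ⁻¹' C)) (hd : ∀ z, i z ∉ C) :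
    ∃ V : Opens X, IsCompact (V : Set X) ∧ (∀ z, i z ∈ V) ∧ ∀ x ∈ V, x ∉ C := by
  classical
  choose V hVc hVi hxV using fun y : ↥(cf X ⁻¹' C) => h.sep (cf X y.1) (by rintro ⟨z, hz⟩; exact hd z (hz ▸ y.2))
  obtain ⟨S, hS⟩ := hC.isCompact.elim_finite_subcover (fun y => (cf X ⁻¹' (V y : Set X))ᶜ)
    (fun y => (isClosed_cons (V y).isOpen (hVc y)).isOpen_compl)
    (fun y hy => Set.mem_iUnion.2 ⟨⟨y, hy⟩, hxV ⟨y, hy⟩⟩)
  refine ⟨S.inf V, ?_, fun z => ?_, fun x hx hxC => ?_⟩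
  · clear hS
    induction S using Finset.induction_on with
    | empty => simpa using isCompact_univ
    | insert a S _ ih =>
      rw [Finset.inf_insert, Opens.coe_inf]
      exact QuasiSeparatedSpace.inter_isCompact _ _ (V a).isOpen (hVc a) (S.inf V).isOpen ih
  · clear hS
    induction S using Finset.induction_on with
    | empty => simp
    | insert a S _ ih =>
      rw [Finset.inf_insert]
      exact ⟨hVi a z, ih⟩
  · obtain ⟨w, hwS, hw⟩ := Set.mem_iUnion₂.1 (hS (show WithTopology.toTopology _ x ∈ cf X ⁻¹' C from hxC))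
    exact hw ((Finset.inf_le hwS : S.inf V ≤ V w) hx)

theorem QcInter.exists_qc_le (A : Opens X) (hA : ∀ z, i z ∈ A) :
    ∃ V : Opens X, IsCompact (V : Set X) ∧ (∀ z, i z ∈ V) ∧ V ≤ A := by
  obtain ⟨V, hV, hVi, hVC⟩ := h.exists_qc_avoid (C := (A : Set X)ᶜ)
    (A.isOpen.isClosed_compl.preimage (cf X).hom.continuous) fun z hz => hz (hA z)
  exact ⟨V, hV, hVi, fun x hx => not_not.1 (hVC x hx)⟩

theorem QcInter.isCompact_preimage {V : Opens X} (hV : IsCompact (V : Set X)) : IsCompact (i ⁻¹' (V : Set X)) := by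
  rw [h.emb.isCompact_iff, Set.image_preimage_eq_inter_range]
  exact isCompact_of_cons (by rw [Set.preimage_inter]; exact (isClosed_cons V.isOpen hV).inter h.isClosed_range)

theorem QcInter.exists_qc_nhd {O : Opens Z} {z : Z} (hz : z ∈ O) {U : Opens X} (hU : i z ∈ U) :
    ∃ V : Opens X, IsCompact (V : Set X) ∧ i z ∈ V ∧ V ≤ U ∧ ∀ w, i w ∈ V → w ∈ O := by
  obtain ⟨O', hO', he⟩ := h.emb.isInducing.isOpen_iff.1 O.isOpen
  obtain ⟨V, hV, hzV, hVle⟩ := exists_qc (U := U ⊓ ⟨O', hO'⟩) (x := i z) ⟨hU, (Set.ext_iff.1 he z).2 hz⟩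
  exact ⟨V, hV, hzV, hVle.trans inf_le_left, fun w hw => (Set.ext_iff.1 he w).1 (hVle hw).2⟩

variable (F : CohTop.Ab X)

theorem QcInter.exists_rel {V : Opens X} (hV : IsCompact (V : Set X)) {O : Opens Z} (hVO : ∀ z, i z ∈ V → z ∈ O)
    (t : ((CohTop.pull i).obj F).obj.obj (op O)) :
    ∃ (U : Opens X) (s : F.obj.obj (op U)), Rel i F (i ⁻¹' (V : Set X)) t s := by
  classical
  have hloc : ∀ z : ↥(i ⁻¹' (V : Set X)), ∃ (W : Opens X) (s : F.obj.obj (op W)),
      IsCompact (W : Set X) ∧ i z ∈ W ∧ Rel i F (i ⁻¹' (W : Set X)) t s := fun z => by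
    obtain ⟨U, s, N, hzN, hzU, hrel⟩ := exists_local i F t (hVO z.1 z.2)
    obtain ⟨W, hW, hzW, hWU, hWN⟩ := h.exists_qc_nhd hzN hzU
    refine ⟨W, F.obj.map (homOfLE hWU).op s, hW, hzW, fun w hw => ?_⟩
    obtain ⟨h1, h2, e⟩ := hrel w (hWN w hw)
    exact ⟨h1, hw, e.trans (congrArg (σ i F w) (germ_map hWU (i w) hw s).symm)⟩
  choose W s hWc hzW hrel using hloc
  obtain ⟨S, hS⟩ := (h.isCompact_preimage hV).elim_finite_subcover (fun z => i ⁻¹' (W z : Set X))
    (fun z => (W z).isOpen.preimage i.hom.continuous) (fun z hz => Set.mem_iUnion.2 ⟨⟨z, hz⟩, hzW ⟨z, hz⟩⟩)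
  suffices ∀ S : Finset ↥(i ⁻¹' (V : Set X)), ∃ (U : Opens X) (s : F.obj.obj (op U)), IsCompact (U : Set X) ∧
      (∀ w ∈ S, ∀ z, i z ∈ W w → i z ∈ U) ∧ Rel i F (i ⁻¹' (U : Set X)) t s by
    obtain ⟨U, s', -, hSU, hU⟩ := this S
    refine ⟨U, s', fun z hz => hU z ?_⟩
    obtain ⟨w, hwS, hw⟩ := Set.mem_iUnion₂.1 (hS hz)
    exact hSU w hwS z hw
  intro S
  induction S using Finset.induction_on with
  | empty => exact ⟨⊥, 0, by simp, fun w hw => by simp at hw, fun z hz => False.elim hz⟩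
  | insert a S _ ih =>
    obtain ⟨U, r, hU, hSU, hrU⟩ := ih
    obtain ⟨A, hA, hAeq⟩ := exists_eqLocus i F (hrel a) hrU
    obtain ⟨N, hN, hNi, hNC⟩ := h.exists_qc_avoid (C := ((W a : Set X) ∩ (U : Set X)) ∩ (A : Set X)ᶜ)
      (by
        rw [Set.preimage_inter, Set.preimage_inter]
        exact ((isClosed_cons (W a).isOpen (hWc a)).inter (isClosed_cons U.isOpen hU)).inter
          (A.isOpen.isClosed_compl.preimage (cf X).hom.continuous))
      (fun z hz => hz.2 (hA z hz.1.1 hz.1.2))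
    obtain ⟨w, hw⟩ := rel_glue i F (hrel a) hrU (W a ⊓ N) (U ⊓ N) inf_le_left inf_le_left
      (fun x hx hx' => hAeq x (by_contra fun hxA => hNC x hx.2 ⟨⟨hx.1, hx'.1⟩, hxA⟩))
      (fun z hz => ⟨hz, hNi z⟩) (fun z hz => ⟨hz, hNi z⟩)
    refine ⟨_, w, ?_, fun b hb z hz => ?_, fun z hz => hw z ?_⟩
    · rw [Opens.coe_sup, Opens.coe_inf, Opens.coe_inf]
      exact (QuasiSeparatedSpace.inter_isCompact _ _ (W a).isOpen (hWc a) N.isOpen hN).union
        (QuasiSeparatedSpace.inter_isCompact _ _ U.isOpen hU N.isOpen hN)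
    · rcases Finset.mem_insert.1 hb with rfl | hb
      · exact (le_sup_left : W b ⊓ N ≤ _) ⟨hz, hNi z⟩
      · exact (le_sup_right : U ⊓ N ≤ W a ⊓ N ⊔ U ⊓ N) ⟨hSU b hb z hz, hNi z⟩
    · have hz' : i z ∈ (W a ⊓ N ⊔ U ⊓ N : Opens X) := hz
      rw [← SetLike.mem_coe, Opens.coe_sup] at hz'
      exact hz'.elim (fun e => Or.inl e.1) fun e => Or.inr e.1

theorem QcInter.exists_rel_top (t : ((CohTop.pull i).obj F).obj.obj (op (⊤ : Opens Z))) :
    ∃ (U : Opens X) (s : F.obj.obj (op U)), Rel i F Set.univ t s := by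
  obtain ⟨U, s, hs⟩ := h.exists_rel F (V := ⊤) (O := ⊤) (by simpa using isCompact_univ) (fun z _ => trivial) t
  exact ⟨U, s, fun z _ => hs z trivial⟩

theorem QcInter.exists_eq_preimage {V : Opens Z} (hV : IsCompact (V : Set Z)) :
    ∃ U : Opens X, IsCompact (U : Set X) ∧ (V : Set Z) = i ⁻¹' (U : Set X) := by
  classical
  choose W hWc hzW _ hWO using fun z : V => h.exists_qc_nhd (O := V) z.2 (U := ⊤) trivial
  obtain ⟨S, hS⟩ := hV.elim_finite_subcover (fun z : V => i ⁻¹' (W z : Set X))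
    (fun z => (W z).isOpen.preimage i.hom.continuous) (fun z hz => Set.mem_iUnion.2 ⟨⟨z, hz⟩, hzW ⟨z, hz⟩⟩)
  refine ⟨⟨⋃ z ∈ S, (W z : Set X), isOpen_biUnion fun z _ => (W z).isOpen⟩, S.finite_toSet.isCompact_biUnion fun z _ => hWc z, ?_⟩
  refine Set.Subset.antisymm (fun z hz => ?_) fun z hz => ?_
  · obtain ⟨w, hwS, hw⟩ := Set.mem_iUnion₂.1 (hS hz)
    exact Set.mem_iUnion₂.2 ⟨w, hwS, hw⟩
  · obtain ⟨w, -, hw⟩ := Set.mem_iUnion₂.1 hz
    exact hWO w z hw

theorem QcInter.prespectral : PrespectralSpace Z :=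
  ⟨isTopologicalBasis_of_isOpen_of_nhds (fun s hs => hs.1) fun z O hz hO => by
    obtain ⟨V, hV, hzV, -, hVO⟩ := h.exists_qc_nhd (O := ⟨O, hO⟩) hz (U := ⊤) trivial
    exact ⟨i ⁻¹' (V : Set X), ⟨V.isOpen.preimage i.hom.continuous, h.isCompact_preimage hV⟩, hzV, hVO⟩⟩

theorem QcInter.quasiSeparated : QuasiSeparatedSpace Z := ⟨fun A B hA hAc hB hBc => by
  obtain ⟨U, hU, eU⟩ := h.exists_eq_preimage (V := ⟨A, hA⟩) hAc
  obtain ⟨U', hU', eU'⟩ := h.exists_eq_preimage (V := ⟨B, hB⟩) hBc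
  change IsCompact (A ∩ B)
  rw [show A = _ from eU, show B = _ from eU', ← Set.preimage_inter, ← Opens.coe_inf]
  exact h.isCompact_preimage (by rw [Opens.coe_inf]; exact QuasiSeparatedSpace.inter_isCompact _ _ U.isOpen hU U'.isOpen hU')⟩

theorem QcInter.subsingleton_hc_pull [TopCat.Sheaf.IsFlasque F] (n : ℕ) :
    Subsingleton (Hc ((CohTop.pull i).obj F) (n + 1) (⊤ : Opens Z)) := by
  haveI := h.prespectral
  haveI := h.quasiSeparated
  refine subsingleton_hc_of_qcFlasque _ (fun A B hBA _ hB t => ?_) n ⊤ ?_ (IsQuasiSeparated.of_quasiSeparatedSpace _)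
  · obtain ⟨U, hU, eU⟩ := h.exists_eq_preimage hB
    obtain ⟨U', s, hs⟩ := h.exists_rel F hU (O := B) (fun z hz => (Set.ext_iff.1 eU z).2 hz) t
    obtain ⟨s', rfl⟩ := (AddCommGrpCat.epi_iff_surjective _).1
      ((inferInstance : TopCat.Sheaf.IsFlasque F).epi (homOfLE (le_top : U' ≤ ⊤)).op) s
    refine ⟨((CohTop.pull i).obj F).obj.map (homOfLE (le_top : A ≤ ⊤)).op (unitSec i F s'),
      TopCat.Presheaf.section_ext ((CohTop.pull i).obj F) B _ _ fun z hz => ?_⟩
    obtain ⟨h1, h2, e⟩ := hs z ((Set.ext_iff.1 eU z).1 hz)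
    refine ((germ_map hBA z hz _).trans (germ_map le_top z (hBA hz) _)).trans ?_
    exact ((σ_germ i F s' z (Set.mem_univ (i z))).symm.trans (congrArg (σ i F z) (germ_map le_top (i z) h2 s').symm)).trans e.symm
  · have := h.isCompact_preimage (V := ⊤) (by simpa using isCompact_univ)
    simpa using this

theorem QcInter.subsingleton_hc_pull_injective (I : CohTop.Ab X) (hI : Injective I) (n : ℕ) :
    Subsingleton (Hc ((CohTop.pull i).obj I) (n + 1) (⊤ : Opens Z)) :=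
  haveI := hI
  haveI := isFlasque_of_injective I
  h.subsingleton_hc_pull I n

end Groth.Agent.SheafVan16
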