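import Groth.Agent.Lib.SheafVan16.PullSec
import Groth.Agent.Lib.CohFound.DimShift
import Groth.Agent.Lib.CohFound.Bridge
import Groth.Agent.Lib.CohTop16.DirectImage
import Mathlib.CategoryTheory.Limits.ConcreteCategory.Basic

/-! Cohomology of an inverse image as the colimit over neighbourhoods. -/

universe u

open CategoryTheory TopologicalSpace Opposite CategoryTheory.Limits

set_option autoImplicit false
set_option linter.style.haveILetI false
set_option linter.unusedSectionVars false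
set_option backward.isDefEq.respectTransparency false
set_option backward.isDefEq.respectTransparency.types false

namespace Groth.Agent.SheafVan16

open Groth.Agent.CohFound Groth.Agent.GodTot16

variable {X Z : TopCat.{u}} (i : Z ⟶ X) (P : ObjectProperty (Opens X)ᵒᵖ)

/-- A cofinal family of neighbourhoods. -/
structure IsNbhds : Prop where
  mem : ∀ U, P U → ∀ z, i z ∈ U.unop
  shrink : ∀ A : Opens X, (∀ z, i z ∈ A) → ∃ U, P U ∧ U.unop ≤ A

variable {i P}

theorem IsNbhds.isFiltered (h : IsNbhds i P) : IsFiltered P.FullSubcategory := by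
  obtain ⟨U, hU, -⟩ := h.shrink ⊤ fun z => trivial
  haveI : Nonempty P.FullSubcategory := ⟨⟨U, hU⟩⟩
  refine { cocone_objs := fun A B => ?_, cocone_maps := fun A B f g => ⟨B, 𝟙 B, ?_⟩ }
  · obtain ⟨V, hV, hle⟩ := h.shrink (A.obj.unop ⊓ B.obj.unop) fun z => ⟨h.mem _ A.2 z, h.mem _ B.2 z⟩
    exact ⟨⟨V, hV⟩, ObjectProperty.homMk (homOfLE (hle.trans inf_le_left)).op,
      ObjectProperty.homMk (homOfLE (hle.trans inf_le_right)).op, trivial⟩
  · exact ObjectProperty.hom_ext _ (Quiver.Hom.unop_inj (Subsingleton.elim _ _))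

variable (P)

/-- Cohomology on the neighbourhoods. -/
noncomputable def HP (p : ℕ) (F : CohTop.Ab X) : P.FullSubcategory ⥤ AddCommGrpCat.{u} where
  obj U := AddCommGrpCat.of (Hc F p U.obj.unop)
  map {U V} f := AddCommGrpCat.ofHom (rs F p (leOfHom f.hom.unop))
  map_id U := by ext x; exact rs_refl F p x
  map_comp f g := by ext x; exact (rs_rs F p _ _ x).symm

/-- The colimit of cohomology on the neighbourhoods. -/
noncomputable abbrev cA (p : ℕ) (F : CohTop.Ab X) : AddCommGrpCat.{u} := colimit (HP P p F)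

variable {P}

/-- The class in the colimit. -/
noncomputable abbrev ιA {p : ℕ} {F : CohTop.Ab X} (U : P.FullSubcategory) (x : Hc F p U.obj.unop) : cA P p F :=
  colimit.ι (HP P p F) U x

theorem ιA_rs {p : ℕ} {F : CohTop.Ab X} {U V : P.FullSubcategory} (hle : V.obj.unop ≤ U.obj.unop)
    (x : Hc F p U.obj.unop) : ιA V (rs F p hle x) = ιA U x := by
  have e := ConcreteCategory.congr_hom (colimit.w (HP P p F) (ObjectProperty.homMk (homOfLE hle).op : U ⟶ V)) x
  rw [ConcreteCategory.comp_apply] at e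
  exact e

theorem exists_ιA (h : IsNbhds i P) {p : ℕ} {F : CohTop.Ab X} (a : cA P p F) : ∃ U x, ιA (p := p) (F := F) U x = a :=
  haveI := h.isFiltered
  Concrete.colimit_exists_rep _ a

theorem exists_rs_eq_zero (h : IsNbhds i P) {p : ℕ} {F : CohTop.Ab X} {U : P.FullSubcategory}
    (x : Hc F p U.obj.unop) (hx : ιA U x = 0) :
    ∃ (V : P.FullSubcategory) (hle : V.obj.unop ≤ U.obj.unop), rs F p hle x = 0 := by
  haveI := h.isFiltered
  obtain ⟨V, f, g, e⟩ := (Concrete.colimit_rep_eq_iff_exists (HP P p F) x (0 : Hc F p U.obj.unop)).1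
    (hx.trans (map_zero (colimit.ι (HP P p F) U).hom).symm)
  exact ⟨V, leOfHom f.hom.unop, e.trans (map_zero ((HP P p F).map g).hom)⟩

variable (P)

/-- Functoriality on the neighbourhoods. -/
noncomputable def mpNat {F G : CohTop.Ab X} (φ : F ⟶ G) (p : ℕ) : HP P p F ⟶ HP P p G where
  app U := AddCommGrpCat.ofHom (mp φ p U.obj.unop)
  naturality U V f := by ext x; exact mp_rs φ p _ x

/-- Functoriality. -/
noncomputable def cmp {F G : CohTop.Ab X} (φ : F ⟶ G) (p : ℕ) : cA P p F →+ cA P p G :=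
  (colimMap (mpNat P φ p)).hom

variable {P}

theorem cmp_ιA {F G : CohTop.Ab X} (φ : F ⟶ G) (p : ℕ) (U : P.FullSubcategory) (x : Hc F p U.obj.unop) :
    cmp P φ p (ιA U x) = ιA U (mp φ p U.obj.unop x) := by
  have e := ConcreteCategory.congr_hom (ι_colimMap (mpNat P φ p) U) x
  rw [ConcreteCategory.comp_apply] at e
  exact e

section SES

variable {S : ShortComplex (CohTop.Ab X)} (hS : S.ShortExact)

variable (P) in
/-- The connecting maps on the neighbourhoods. -/
noncomputable def deltaNat (p : ℕ) : HP P p S.X₃ ⟶ HP P (p + 1) S.X₁ where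
  app U := AddCommGrpCat.ofHom (delta hS p U.obj.unop)
  naturality U V f := by ext x; exact delta_rs hS p _ x

variable (P) in
/-- The connecting map. -/
noncomputable def cdelta (p : ℕ) : cA P p S.X₃ →+ cA P (p + 1) S.X₁ :=
  (colimMap (deltaNat P hS p)).hom

theorem cdelta_ιA (p : ℕ) (U : P.FullSubcategory) (x : Hc S.X₃ p U.obj.unop) :
    cdelta P hS p (ιA U x) = ιA U (delta hS p U.obj.unop x) := by
  have e := ConcreteCategory.congr_hom (ι_colimMap (deltaNat P hS p) U) x
  rw [ConcreteCategory.comp_apply] at e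
  exact e

theorem cdelta_surjective (h : IsNbhds i P) (p : ℕ) (h2 : ∀ U : Opens X, Subsingleton (Hc S.X₂ (p + 1) U)) :
    Function.Surjective (cdelta P hS p) := fun a => by
  obtain ⟨U, x, rfl⟩ := exists_ιA h a
  haveI := h2 U.obj.unop
  obtain ⟨y, rfl⟩ := CohFound.exact₁ hS p _ x (Subsingleton.elim _ _)
  exact ⟨ιA U y, cdelta_ιA hS p U y⟩

theorem cdelta_ker (h : IsNbhds i P) (p : ℕ) : (cdelta P hS p).ker = (cmp P S.g p).range := by
  ext a
  constructor
  · intro ha
    obtain ⟨U, x, rfl⟩ := exists_ιA h a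
    obtain ⟨V, hle, e⟩ := exists_rs_eq_zero h _ ((cdelta_ιA hS p U x).symm.trans ha)
    rw [← delta_rs] at e
    obtain ⟨y, hy⟩ := CohFound.exact₃ hS p _ _ e
    exact ⟨ιA V y, ((cmp_ιA S.g p V y).trans (congrArg (ιA V) hy)).trans (ιA_rs hle x)⟩
  · rintro ⟨b, rfl⟩
    obtain ⟨U, y, rfl⟩ := exists_ιA h b
    change cdelta P hS p _ = 0
    rw [cmp_ιA, cdelta_ιA, delta_mp]
    exact map_zero _

theorem cdelta_bijective (h : IsNbhds i P) (p : ℕ) (h1 : ∀ U : Opens X, Subsingleton (Hc S.X₂ (p + 1) U))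
    (h2 : ∀ U : Opens X, Subsingleton (Hc S.X₂ (p + 2) U)) : Function.Bijective (cdelta P hS (p + 1)) := by
  refine ⟨?_, cdelta_surjective hS h (p + 1) h2⟩
  rw [← AddMonoidHom.ker_eq_bot_iff, cdelta_ker hS h, AddSubgroup.eq_bot_iff_forall]
  rintro _ ⟨b, rfl⟩
  obtain ⟨U, y, rfl⟩ := exists_ιA h b
  haveI := h1 U.obj.unop
  rw [Subsingleton.elim y 0, cmp_ιA, map_zero]
  exact map_zero _

end SES

/-- The restriction to the inverse image in degree zero. -/
noncomputable def toPull (h : IsNbhds i P) (F : CohTop.Ab X) : cA P 0 F →+ Hc ((CohTop.pull i).obj F) 0 (⊤ : Opens Z) :=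
  (colimit.desc (HP P 0 F) (Cocone.mk (AddCommGrpCat.of (Hc ((CohTop.pull i).obj F) 0 (⊤ : Opens Z)))
    { app := fun U => AddCommGrpCat.ofHom (((hc0 ((CohTop.pull i).obj F) (⊤ : Opens Z)).symm.toAddMonoidHom.comp
        (((CohTop.pull i).obj F).obj.map (homOfLE (fun z _ => h.mem _ U.2 z :
          (⊤ : Opens Z) ≤ (Opens.map i).obj U.obj.unop)).op).hom).comp
        (((((TopCat.Sheaf.pullbackPushforwardAdjunction AddCommGrpCat.{u} i).unit.app F).hom.app (op U.obj.unop)).hom).comp
          (hc0 F U.obj.unop).toAddMonoidHom))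
      naturality := fun U V f => by
        ext x
        refine congrArg (hc0 ((CohTop.pull i).obj F) (⊤ : Opens Z)).symm ?_
        change ((CohTop.pull i).obj F).obj.map _ (unitSec i F (hc0 F _ (rs F 0 (leOfHom f.hom.unop) x))) =
          ((CohTop.pull i).obj F).obj.map _ (unitSec i F (hc0 F _ x))
        rw [hc0_rs]
        refine (congrArg (((CohTop.pull i).obj F).obj.map _) (NatTrans.naturality_apply
          ((TopCat.Sheaf.pullbackPushforwardAdjunction AddCommGrpCat.{u} i).unit.app F).hom _ _)).trans ?_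
        change ((CohTop.pull i).obj F).obj.map _ (((CohTop.pull i).obj F).obj.map
          ((Opens.map i).map (homOfLE (leOfHom f.hom.unop))).op _) = _
        rw [← ConcreteCategory.comp_apply, ← Functor.map_comp]
        rfl })).hom

theorem hc0_toPull (h : IsNbhds i P) (F : CohTop.Ab X) (U : P.FullSubcategory) (x : Hc F 0 U.obj.unop) :
    hc0 ((CohTop.pull i).obj F) ⊤ (toPull h F (ιA U x)) = ((CohTop.pull i).obj F).obj.map
      (homOfLE (fun z _ => h.mem _ U.2 z : (⊤ : Opens Z) ≤ (Opens.map i).obj U.obj.unop)).op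
        (unitSec i F (hc0 F U.obj.unop x)) := by
  rw [toPull, ← ConcreteCategory.comp_apply, colimit.ι_desc]
  exact (hc0 ((CohTop.pull i).obj F) ⊤).apply_symm_apply _

theorem germ_toPull (h : IsNbhds i P) (F : CohTop.Ab X) (U : P.FullSubcategory) (x : Hc F 0 U.obj.unop) (z : Z) :
    germ ((CohTop.pull i).obj F) z (Set.mem_univ z : z ∈ (⊤ : Opens Z)) (hc0 ((CohTop.pull i).obj F) ⊤ (toPull h F (ιA U x))) =
      σ i F z (germ F (i z) (h.mem _ U.2 z) (hc0 F U.obj.unop x)) :=
  ((congrArg (germ ((CohTop.pull i).obj F) z (Set.mem_univ z : z ∈ (⊤ : Opens Z))) (hc0_toPull h F U x)).trans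
    (germ_map _ z _ _)).trans (σ_germ i F _ z _).symm

theorem toPull_bijective (h : IsNbhds i P) (F : CohTop.Ab X)
    (hs : ∀ t : ((CohTop.pull i).obj F).obj.obj (op (⊤ : Opens Z)),
      ∃ (U : Opens X) (s : F.obj.obj (op U)), Rel i F Set.univ t s) :
    Function.Bijective (toPull h F) := by
  refine ⟨(injective_iff_map_eq_zero _).2 fun a ha => ?_, fun b => ?_⟩
  · obtain ⟨U, x, rfl⟩ := exists_ιA h a
    obtain ⟨A, hAU, hzA, hA⟩ := exists_open_zero i F (hc0 F U.obj.unop x) fun z => ⟨h.mem _ U.2 z, by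
      rw [← germ_toPull h, ha, map_zero]; exact map_zero _⟩
    obtain ⟨V, hV, hVA⟩ := h.shrink A hzA
    rw [← ιA_rs (V := ⟨V, hV⟩) (hVA.trans hAU) x,
      show rs F 0 (hVA.trans hAU) x = 0 from (hc0 F V.unop).injective (by rw [hc0_rs, hA V.unop _ hVA, map_zero])]
    exact map_zero _
  · obtain ⟨U, s, hUs⟩ := hs (hc0 _ ⊤ b)
    obtain ⟨V, hV, hVU⟩ := h.shrink U fun z => (hUs z trivial).2.1
    refine ⟨ιA ⟨V, hV⟩ ((hc0 F V.unop).symm (F.obj.map (homOfLE hVU).op s)),
      (hc0 _ ⊤).injective (TopCat.Presheaf.section_ext _ _ _ _ fun z _ => ?_)⟩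
    refine (germ_toPull h F ⟨V, hV⟩ _ z).trans ?_
    obtain ⟨h1, h2, e⟩ := hUs z trivial
    rw [AddEquiv.apply_symm_apply]
    exact (congrArg (σ i F z) (germ_map hVU (i z) (h.mem _ hV z) s)).trans e.symm

theorem toPull_natural (h : IsNbhds i P) {F G : CohTop.Ab X} (φ : F ⟶ G) (a : cA P 0 F) :
    mp ((CohTop.pull i).map φ) 0 ⊤ (toPull h F a) = toPull h G (cmp P φ 0 a) := by
  obtain ⟨U, x, rfl⟩ := exists_ιA h a
  apply (hc0 ((CohTop.pull i).obj G) (⊤ : Opens Z)).injective
  rw [hc0_mp, hc0_toPull, cmp_ιA, hc0_toPull, hc0_mp]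
  refine (NatTrans.naturality_apply ((CohTop.pull i).map φ).hom _ _).trans (congrArg (((CohTop.pull i).obj G).obj.map _) ?_)
  exact (congrArg (fun ψ => (ψ.hom.app (op U.obj.unop)) (hc0 F U.obj.unop x))
    ((TopCat.Sheaf.pullbackPushforwardAdjunction AddCommGrpCat.{u} i).unit.naturality φ)).symm

theorem nonempty_cA_addEquiv (h : IsNbhds i P)
    (hs : ∀ (F : CohTop.Ab X) (t : ((CohTop.pull i).obj F).obj.obj (op (⊤ : Opens Z))),
      ∃ (U : Opens X) (s : F.obj.obj (op U)), Rel i F Set.univ t s)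
    (hI : ∀ I : CohTop.Ab X, Injective I → ∀ n, Subsingleton (Hc ((CohTop.pull i).obj I) (n + 1) (⊤ : Opens Z)))
    (p : ℕ) : ∀ F : CohTop.Ab X, Nonempty (cA P p F ≃+ Hc ((CohTop.pull i).obj F) p (⊤ : Opens Z)) := by
  induction p with
  | zero => exact fun F => ⟨AddEquiv.ofBijective (toPull h F) (toPull_bijective h F (hs F))⟩
  | succ p ih =>
    intro F
    haveI := CohTop16.preservesFiniteLimits_pull i
    haveI := CohTop16.preservesFiniteColimits_pull i
    haveI := CohTop16.additive_pull i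
    have hS := injSC_shortExact F
    have hS' := hS.map_of_exact (CohTop.pull i)
    have hX : ∀ (n : ℕ) (U : Opens X), Subsingleton (Hc (injSC F).X₂ (n + 1) U) := fun n U =>
      subsingleton_hc_injective _ n U
    have hY : ∀ n, Subsingleton (Hc ((injSC F).map (CohTop.pull i)).X₂ (n + 1) (⊤ : Opens Z)) :=
      hI (injSC F).X₂ (inferInstanceAs (Injective (Injective.under F)))
    cases p with
    | zero =>
      let e := AddEquiv.ofBijective (toPull h (injSC F).X₃) (toPull_bijective h _ (hs _))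
      have hrange : ((cdelta P hS 0).ker).map e.toAddMonoidHom =
          (delta hS' 0 (⊤ : Opens Z)).ker := by
        rw [cdelta_ker hS h]
        ext b
        constructor
        · rintro ⟨_, ⟨a, rfl⟩, rfl⟩
          change delta hS' 0 ⊤ (toPull h (injSC F).X₃ (cmp P (injSC F).g 0 a)) = 0
          rw [← toPull_natural]
          exact delta_mp hS' 0 ⊤ _
        · intro hb
          obtain ⟨y, hy⟩ := CohFound.exact₃ hS' 0 ⊤ b hb
          obtain ⟨a, rfl⟩ := (toPull_bijective h _ (hs _)).2 y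
          exact ⟨_, ⟨a, rfl⟩, (toPull_natural h (injSC F).g a).symm.trans hy⟩
      haveI := hY 0
      exact ⟨((QuotientAddGroup.quotientKerEquivOfSurjective _ (cdelta_surjective hS h 0 (hX 0))).symm.trans
        ((QuotientAddGroup.congr _ _ e hrange).trans
          (QuotientAddGroup.quotientKerEquivOfSurjective _
            (fun x => CohFound.exact₁ hS' 0 ⊤ x (Subsingleton.elim _ _)))))⟩
    | succ k =>
      obtain ⟨eq⟩ := ih (injSC F).X₃
      exact ⟨((AddEquiv.ofBijective _ (cdelta_bijective hS h k (hX k) (hX (k + 1)))).symm.trans eq).trans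
        (AddEquiv.ofBijective _ (delta_bijective hS' k ⊤ (hY k) (hY (k + 1))))⟩

theorem nonempty_colimit_equiv (h : IsNbhds i P)
    (hs : ∀ (F : CohTop.Ab X) (t : ((CohTop.pull i).obj F).obj.obj (op (⊤ : Opens Z))),
      ∃ (U : Opens X) (s : F.obj.obj (op U)), Rel i F Set.univ t s)
    (hI : ∀ I : CohTop.Ab X, Injective I → ∀ n, Subsingleton (Hc ((CohTop.pull i).obj I) (n + 1) (⊤ : Opens Z)))
    (F : CohTop.Ab X) (p : ℕ) :
    Nonempty ((colimit (P.ι ⋙ (Sheaf.cohomologyPresheafFunctor (Opens.grothendieckTopology X) p).obj F) :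
      AddCommGrpCat.{u}) ≃+ CohTop.H ((CohTop.pull i).obj F) p) := by
  obtain ⟨e⟩ := nonempty_cA_addEquiv h hs hI p F
  let η : P.ι ⋙ (Sheaf.cohomologyPresheafFunctor (Opens.grothendieckTopology X) p).obj F ≅ HP P p F :=
    NatIso.ofComponents (fun U => (huExt F p U.obj.unop).toAddCommGrpIso) fun {U V} f => by
      ext x
      exact huExt_res F p (leOfHom f.hom.unop) x
  exact ⟨((HasColimit.isoOfNatIso η).addCommGroupIsoToAddEquiv.trans e).trans (hExt _ p).symm⟩

end Groth.Agent.SheafVan16
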