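import Groth.Agent.Lib.SheafVan16.Stalk
import Groth.Agent.Lib.CohFound.Godement
import Groth.Agent.Lib.CohFound.Colim

/-! Sections of inverse images through germs. -/

universe u

open CategoryTheory TopologicalSpace Opposite CategoryTheory.Limits

set_option autoImplicit false
set_option linter.style.haveILetI false
set_option linter.unusedSectionVars false
set_option backward.isDefEq.respectTransparency false
set_option backward.isDefEq.respectTransparency.types false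

namespace Groth.Agent.SheafVan16

open Groth.Agent.CohFound Groth.Agent.GodTot16

variable {X Z : TopCat.{u}} (i : Z ⟶ X) (F : CohTop.Ab X)

/-- The comparison of germs. -/
noncomputable abbrev σ (z : Z) : (stk (i z)).obj F →+ (stk z).obj ((CohTop.pull i).obj F) :=
  (stalkUnit i F z).hom

theorem bijective_σ (z : Z) : Function.Bijective (σ i F z) := by
  haveI := isIso_stalkUnit i F z
  exact ⟨(AddCommGrpCat.mono_iff_injective _).1 inferInstance, (AddCommGrpCat.epi_iff_surjective _).1 inferInstance⟩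

/-- The image of a section in the inverse image. -/
noncomputable abbrev unitSec {U : Opens X} (s : F.obj.obj (op U)) :
    ((CohTop.pull i).obj F).obj.obj (op ((Opens.map i).obj U)) :=
  ((TopCat.Sheaf.pullbackPushforwardAdjunction AddCommGrpCat.{u} i).unit.app F).hom.app (op U) s

theorem σ_germ {U : Opens X} (s : F.obj.obj (op U)) (z : Z) (hz : i z ∈ U) :
    σ i F z (germ F (i z) hz s) = germ ((CohTop.pull i).obj F) z (show z ∈ (Opens.map i).obj U from hz) (unitSec i F s) :=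
  ConcreteCategory.congr_hom (germ_stalkUnit i F z U hz) s

theorem exists_open_eq {G : CohTop.Ab X} {U V : Opens X} (s : G.obj.obj (op U)) (t : G.obj.obj (op V)) :
    ∃ A : Opens X, A ≤ U ⊓ V ∧ ∀ x, x ∈ A ↔ ∃ (h1 : x ∈ U) (h2 : x ∈ V), germ G x h1 s = germ G x h2 t := by
  refine ⟨⟨{x | ∃ (h1 : x ∈ U) (h2 : x ∈ V), germ G x h1 s = germ G x h2 t}, isOpen_iff_forall_mem_open.2 ?_⟩,
    fun x ⟨h1, h2, _⟩ => ⟨h1, h2⟩, fun x => Iff.rfl⟩
  rintro z ⟨h1, h2, e⟩
  obtain ⟨O, hzO, i1, i2, eO⟩ := TopCat.Presheaf.germ_eq G.obj z h1 h2 _ _ e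
  refine ⟨O, fun z' hz' => ⟨leOfHom i1 hz', leOfHom i2 hz', ?_⟩, O.isOpen, hzO⟩
  exact ((germ_map (leOfHom i1) z' hz' s).symm.trans (congrArg (germ G z' hz') eO)).trans (germ_map (leOfHom i2) z' hz' t)

theorem exists_glue_germ {G : CohTop.Ab X} {U V : Opens X} (s : G.obj.obj (op U)) (t : G.obj.obj (op V))
    (h : ∀ x (h1 : x ∈ U) (h2 : x ∈ V), germ G x h1 s = germ G x h2 t) :
    ∃ w : G.obj.obj (op (U ⊔ V)),
      (∀ x (hx : x ∈ U), germ G x ((le_sup_left : U ≤ U ⊔ V) hx) w = germ G x hx s) ∧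
      (∀ x (hx : x ∈ V), germ G x ((le_sup_right : V ≤ U ⊔ V) hx) w = germ G x hx t) := by
  obtain ⟨w, hw1, hw2⟩ := exists_glue₂ (F := G) s t (TopCat.Presheaf.section_ext G _ _ _ fun x hx =>
    ((germ_map inf_le_left x hx s).trans (h x hx.1 hx.2)).trans (germ_map inf_le_right x hx t).symm)
  exact ⟨w, fun x hx => (germ_map le_sup_left x hx w).symm.trans (congrArg (germ G x hx) hw1),
    fun x hx => (germ_map le_sup_right x hx w).symm.trans (congrArg (germ G x hx) hw2)⟩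

/-- The section `s` induces `t` on the points of `K`. -/
def Rel (K : Set Z) {O : Opens Z} (t : ((CohTop.pull i).obj F).obj.obj (op O)) {U : Opens X}
    (s : F.obj.obj (op U)) : Prop :=
  ∀ z ∈ K, ∃ (h1 : z ∈ O) (h2 : i z ∈ U), germ ((CohTop.pull i).obj F) z h1 t = σ i F z (germ F (i z) h2 s)

theorem exists_local {O : Opens Z} (t : ((CohTop.pull i).obj F).obj.obj (op O)) {z : Z} (hz : z ∈ O) :
    ∃ (U : Opens X) (s : F.obj.obj (op U)) (N : Opens Z), z ∈ N ∧ i z ∈ U ∧ Rel i F (N : Set Z) t s := by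
  obtain ⟨a, ha⟩ := (bijective_σ i F z).2 (germ _ z hz t)
  obtain ⟨U, hU, s, rfl⟩ := exists_germ (i z) a
  obtain ⟨A, -, hA⟩ := exists_open_eq (G := (CohTop.pull i).obj F) t (unitSec i F s)
  refine ⟨U, s, A, (hA z).2 ⟨hz, hU, ?_⟩, hU, fun z' hz' => ?_⟩
  · exact ha.symm.trans (σ_germ i F s z hU)
  · obtain ⟨h1, h2, e⟩ := (hA z').1 hz'
    exact ⟨h1, h2, e.trans (σ_germ i F s z' h2).symm⟩

theorem exists_eqLocus {K₁ K₂ : Set Z} {O : Opens Z} {t : ((CohTop.pull i).obj F).obj.obj (op O)} {U V : Opens X}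
    {s : F.obj.obj (op U)} {r : F.obj.obj (op V)} (h1 : Rel i F K₁ t s) (h2 : Rel i F K₂ t r) :
    ∃ A : Opens X, (∀ z ∈ K₁, z ∈ K₂ → i z ∈ A) ∧
      ∀ x ∈ A, ∃ (hU : x ∈ U) (hV : x ∈ V), germ F x hU s = germ F x hV r := by
  obtain ⟨A, -, hA⟩ := exists_open_eq s r
  refine ⟨A, fun z hz1 hz2 => ?_, fun x hx => (hA x).1 hx⟩
  obtain ⟨a1, b1, e1⟩ := h1 z hz1
  obtain ⟨a2, b2, e2⟩ := h2 z hz2
  exact (hA _).2 ⟨b1, b2, (bijective_σ i F z).1 (e1.symm.trans e2)⟩

/-- Gluing two inducing sections when their domains can be shrunk into the agreement locus. -/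
theorem rel_glue {K₁ K₂ : Set Z} {O : Opens Z} {t : ((CohTop.pull i).obj F).obj.obj (op O)} {U V : Opens X}
    {s : F.obj.obj (op U)} {r : F.obj.obj (op V)} (h1 : Rel i F K₁ t s) (h2 : Rel i F K₂ t r)
    (U' V' : Opens X) (hU' : U' ≤ U) (hV' : V' ≤ V)
    (hag : ∀ x ∈ U', x ∈ V' → ∃ (a : x ∈ U) (b : x ∈ V), germ F x a s = germ F x b r)
    (hK1 : ∀ z ∈ K₁, i z ∈ U') (hK2 : ∀ z ∈ K₂, i z ∈ V') :
    ∃ w : F.obj.obj (op (U' ⊔ V')), Rel i F (K₁ ∪ K₂) t w := by
  obtain ⟨w, hw1, hw2⟩ := exists_glue_germ (F.obj.map (homOfLE hU').op s) (F.obj.map (homOfLE hV').op r)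
    fun x a b => by
      obtain ⟨a', b', e⟩ := hag x a b
      exact ((germ_map hU' x a s).trans e).trans (germ_map hV' x b r).symm
  refine ⟨w, fun z hz => ?_⟩
  rcases hz with hz | hz
  · obtain ⟨a, b, e⟩ := h1 z hz
    exact ⟨a, (le_sup_left : U' ≤ U' ⊔ V') (hK1 z hz),
      e.trans (congrArg (σ i F z) ((hw1 _ (hK1 z hz)).trans (germ_map hU' _ (hK1 z hz) s)).symm)⟩
  · obtain ⟨a, b, e⟩ := h2 z hz
    exact ⟨a, (le_sup_right : V' ≤ U' ⊔ V') (hK2 z hz),
      e.trans (congrArg (σ i F z) ((hw2 _ (hK2 z hz)).trans (germ_map hV' _ (hK2 z hz) r)).symm)⟩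

theorem exists_open_zero {U : Opens X} (s : F.obj.obj (op U))
    (h : ∀ z, ∃ hz : i z ∈ U, σ i F z (germ F (i z) hz s) = 0) :
    ∃ A : Opens X, A ≤ U ∧ (∀ z, i z ∈ A) ∧ ∀ V : Opens X, ∀ hVU : V ≤ U, V ≤ A →
      F.obj.map (homOfLE hVU).op s = 0 := by
  obtain ⟨A, hAle, hA⟩ := exists_open_eq s (0 : F.obj.obj (op U))
  refine ⟨A, hAle.trans inf_le_left, fun z => ?_, fun V hVU hVA => TopCat.Presheaf.section_ext F V _ _ fun x hx => ?_⟩
  · obtain ⟨hz, e⟩ := h z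
    exact (hA _).2 ⟨hz, hz, (bijective_σ i F z).1 ((e.trans (map_zero _).symm).trans (congrArg _ (map_zero _).symm))⟩
  · obtain ⟨a, b, e⟩ := (hA x).1 (hVA hx)
    exact ((germ_map hVU x hx s).trans (e.trans (map_zero _))).trans (map_zero _).symm

end Groth.Agent.SheafVan16
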