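import Groth.Agent.Lib.SheafVan16.NbhdColim
import Groth.Agent.Lib.CohFound.RpushHc
import Mathlib.Topology.Sheaves.Sheafify

/-! Stalks of higher direct images as colimits over preimages of neighbourhoods. -/

universe u

open CategoryTheory TopologicalSpace Opposite CategoryTheory.Limits

set_option autoImplicit false
set_option linter.style.haveILetI false
set_option linter.unusedSectionVars false
set_option backward.isDefEq.respectTransparency false
set_option backward.isDefEq.respectTransparency.types false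

namespace Groth.Agent.SheafVan16

open Groth.Agent.CohFound Groth.Agent.GodTot16

variable {X Y Z : TopCat.{u}} (f : X ⟶ Y) (y : Y)

/-- Preimages of neighbourhoods of `y`. -/
def preNbhd : ObjectProperty (Opens X)ᵒᵖ := fun U => ∃ V : Opens Y, y ∈ V ∧ U.unop = (Opens.map f).obj V

/-- The indexing functor. -/
def preNbhdFunctor : (OpenNhds y)ᵒᵖ ⥤ (preNbhd f y).FullSubcategory :=
  ObjectProperty.lift (preNbhd f y) ((OpenNhds.inclusion y).op ⋙ (Opens.map f).op)
    fun V => ⟨V.unop.1, V.unop.2, rfl⟩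

variable {f y} {i : Z ⟶ X}

/-- The comparison map. -/
noncomputable def stalkToCA (F : CohTop.Ab X) (p : ℕ) :
    TopCat.Presheaf.stalk (hcPrePush f F p) y ⟶ cA (preNbhd f y) p F :=
  colimit.desc _ (Cocone.mk (cA (preNbhd f y) p F)
    { app := fun V => colimit.ι (HP (preNbhd f y) p F) ((preNbhdFunctor f y).obj V)
      naturality := fun V W g => by
        rw [show ((Functor.const (OpenNhds y)ᵒᵖ).obj (cA (preNbhd f y) p F)).map g = 𝟙 _ from rfl]
        refine Eq.trans ?_ (Category.comp_id _).symm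
        exact colimit.w (HP (preNbhd f y) p F) ((preNbhdFunctor f y).map g) })

theorem stalkToCA_germ (F : CohTop.Ab X) (p : ℕ) {V : Opens Y} (hy : y ∈ V) (x : Hc F p ((Opens.map f).obj V)) :
    stalkToCA F p (TopCat.Presheaf.germ (hcPrePush f F p) V y hy x) =
      ιA (P := preNbhd f y) ⟨op ((Opens.map f).obj V), V, hy, rfl⟩ x := by
  have e := ConcreteCategory.congr_hom (colimit.ι_desc (Cocone.mk (cA (preNbhd f y) p F)
    { app := fun V => colimit.ι (HP (preNbhd f y) p F) ((preNbhdFunctor f y).obj V)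
      naturality := fun V W g => by
        rw [show ((Functor.const (OpenNhds y)ᵒᵖ).obj (cA (preNbhd f y) p F)).map g = 𝟙 _ from rfl]
        refine Eq.trans ?_ (Category.comp_id _).symm
        exact colimit.w (HP (preNbhd f y) p F) ((preNbhdFunctor f y).map g) } :
      Cocone ((OpenNhds.inclusion y).op ⋙ hcPrePush f F p)) (op (⟨V, hy⟩ : OpenNhds y))) x
  rw [ConcreteCategory.comp_apply] at e
  exact e

theorem bijective_stalkToCA (h : IsNbhds i (preNbhd f y)) (F : CohTop.Ab X) (p : ℕ) :
    Function.Bijective (stalkToCA (f := f) (y := y) F p) := by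
  refine ⟨(injective_iff_map_eq_zero _).2 fun a ha => ?_, fun b => ?_⟩
  · obtain ⟨V, hy, x, rfl⟩ := TopCat.Presheaf.exists_germ_eq (hcPrePush f F p) a
    rw [stalkToCA_germ] at ha
    obtain ⟨⟨U, V', hy', hU⟩, hle, e⟩ := exists_rs_eq_zero (F := F) (p := p) (U := (⟨op ((Opens.map f).obj V), V, hy, rfl⟩ : (preNbhd f y).FullSubcategory)) h x ha
    obtain rfl : U = op ((Opens.map f).obj V') := Opposite.unop_injective hU
    rw [← TopCat.Presheaf.germ_res_apply (hcPrePush f F p) (homOfLE (inf_le_left : V ⊓ V' ≤ V)) y ⟨hy, hy'⟩ x]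
    refine (congrArg (TopCat.Presheaf.germ (hcPrePush f F p) (V ⊓ V') y ⟨hy, hy'⟩) ?_).trans (map_zero _)
    change rs F p (Set.preimage_mono inf_le_left) x = 0
    have h2 : (Opens.map f).obj (V ⊓ V') ≤ (Opens.map f).obj V' := Set.preimage_mono inf_le_right
    refine (rs_rs F p hle h2 x).symm.trans ?_
    exact (congrArg (rs F p h2) e).trans (map_zero _)
  · obtain ⟨⟨U, V, hy, hU⟩, x, rfl⟩ := exists_ιA h b
    obtain rfl : U = op ((Opens.map f).obj V) := Opposite.unop_injective hU
    exact ⟨TopCat.Presheaf.germ (hcPrePush f F p) V y hy x, stalkToCA_germ F p hy x⟩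

theorem nonempty_stalk_rpush_equiv (h : IsNbhds i (preNbhd f y))
    (hs : ∀ (F : CohTop.Ab X) (t : ((CohTop.pull i).obj F).obj.obj (op (⊤ : Opens Z))),
      ∃ (U : Opens X) (s : F.obj.obj (op U)), Rel i F Set.univ t s)
    (hI : ∀ I : CohTop.Ab X, Injective I → ∀ n, Subsingleton (Hc ((CohTop.pull i).obj I) (n + 1) (⊤ : Opens Z)))
    (F : CohTop.Ab X) (p : ℕ) :
    Nonempty (CohTop.stalk ((CohTop.Rpush f p).obj F) y ≃+ CohTop.H ((CohTop.pull i).obj F) p) := by
  obtain ⟨e⟩ := nonempty_rpush_iso_shPre f F p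
  obtain ⟨e'⟩ := nonempty_cA_addEquiv h hs hI p F
  haveI := TopCat.Presheaf.stalkFunctor_map_unit_toSheafify_isIso y AddCommGrpCat.{u} (hcPrePush f F p)
  exact ⟨((((stk y).mapIso e).addCommGroupIsoToAddEquiv).trans
    ((asIso ((TopCat.Presheaf.stalkFunctor AddCommGrpCat.{u} y).map
      (toSheafify (Opens.grothendieckTopology Y) (hcPrePush f F p)))).symm.addCommGroupIsoToAddEquiv)).trans
    ((AddEquiv.ofBijective (stalkToCA (f := f) (y := y) F p).hom (bijective_stalkToCA h F p)).trans
      (e'.trans (hExt _ p).symm))⟩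

end Groth.Agent.SheafVan16
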