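import Groth.Agent.Lib.CohFound.Free
import Groth.Agent.Lib.CohFound.Sheafify
import Groth.Agent.Lib.GodTot16.Godement

/-! Elementwise stalk toolkit for abelian sheaves; stalks of free sheaves. -/

universe u

open CategoryTheory TopologicalSpace Opposite CategoryTheory.Limits

set_option autoImplicit false
set_option linter.style.haveILetI false
set_option backward.isDefEq.respectTransparency false
set_option backward.isDefEq.respectTransparency.types false

namespace Groth.Agent.SheafVan16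

open Groth.Agent.CohFound Groth.Agent.GodTot16

variable {X : TopCat.{u}} {F G K : CohTop.Ab X}

/-- The map on stalks. -/
noncomputable abbrev st (φ : F ⟶ G) (x : X) : (stk x).obj F →+ (stk x).obj G := ((stk x).map φ).hom

/-- The germ. -/
noncomputable abbrev germ (F : CohTop.Ab X) (x : X) {U : Opens X} (hx : x ∈ U) (s : F.obj.obj (op U)) :
    (stk x).obj F :=
  TopCat.Presheaf.germ F.obj U x hx s

theorem exists_germ (x : X) (a : (stk x).obj F) :
    ∃ (U : Opens X) (hx : x ∈ U) (s : F.obj.obj (op U)), germ F x hx s = a :=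
  TopCat.Presheaf.exists_germ_eq F.obj a

theorem st_germ (φ : F ⟶ G) (x : X) {U : Opens X} (hx : x ∈ U) (s : F.obj.obj (op U)) :
    st φ x (germ F x hx s) = germ G x hx (φ.hom.app (op U) s) :=
  TopCat.Presheaf.stalkFunctor_map_germ_apply U x hx φ.hom s

theorem germ_map {U V : Opens X} (h : V ≤ U) (x : X) (hx : x ∈ V) (s : F.obj.obj (op U)) :
    germ F x hx (F.obj.map (homOfLE h).op s) = germ F x (h hx) s :=
  TopCat.Presheaf.germ_res_apply F.obj (homOfLE h) x hx s

theorem st_comp (φ : F ⟶ G) (ψ : G ⟶ K) (x : X) (a : (stk x).obj F) :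
    st (φ ≫ ψ) x a = st ψ x (st φ x a) := by
  rw [st, Functor.map_comp]; rfl

theorem st_add (φ ψ : F ⟶ G) (x : X) (a : (stk x).obj F) : st (φ + ψ) x a = st φ x a + st ψ x a := by
  rw [st, Functor.map_add]; rfl

theorem st_zero (x : X) (a : (stk x).obj F) : st (0 : F ⟶ G) x a = 0 := by
  rw [st, Functor.map_zero]; rfl

theorem st_zsmul (n : ℤ) (φ : F ⟶ G) (x : X) (a : (stk x).obj F) : st (n • φ) x a = n • st φ x a := by
  rw [st, Functor.map_zsmul]; rfl

theorem st_id (x : X) (a : (stk x).obj F) : st (𝟙 F) x a = a := by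
  rw [st, CategoryTheory.Functor.map_id]; rfl

theorem hom_eq_zero (φ : F ⟶ G) (h : ∀ (x : X) (a : (stk x).obj F), st φ x a = 0) : φ = 0 := by
  ext U s
  refine TopCat.Presheaf.section_ext G U.unop _ _ fun x hx => ?_
  exact ((st_germ φ x hx s).symm.trans (h x _)).trans (map_zero _).symm

theorem mono_of_st (φ : F ⟶ G) (h : ∀ (x : X) (a : (stk x).obj F), st φ x a = 0 → a = 0) : Mono φ :=
  Preadditive.mono_of_cancel_zero _ fun g hg => hom_eq_zero g fun x a =>
    h x _ (by rw [← st_comp, hg, st_zero])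

theorem epi_of_st (φ : F ⟶ G) (h : ∀ x : X, Function.Surjective (st φ x)) : Epi φ :=
  Preadditive.epi_of_cancel_zero _ fun g hg => hom_eq_zero g fun x a => by
    obtain ⟨b, rfl⟩ := h x a
    rw [← st_comp, hg, st_zero]

theorem isZero_of_st (h : ∀ (x : X) (a : (stk x).obj F), a = 0) : IsZero F :=
  (IsZero.iff_id_eq_zero F).2 (hom_eq_zero _ fun x a => by rw [h x a, map_zero])

theorem st_injective (φ : F ⟶ G) [Mono φ] (x : X) : Function.Injective (st φ x) :=
  (AddCommGrpCat.mono_iff_injective _).1 (inferInstance : Mono ((stk x).map φ))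

theorem st_surjective (φ : F ⟶ G) [Epi φ] (x : X) : Function.Surjective (st φ x) :=
  (AddCommGrpCat.epi_iff_surjective _).1 (inferInstance : Epi ((stk x).map φ))

theorem st_exact {S : ShortComplex (CohTop.Ab X)} (hS : S.Exact) (x : X) (b : (stk x).obj S.X₂)
    (hb : st S.g x b = 0) : ∃ a, st S.f x a = b := by
  haveI : (stk x).PreservesHomology := inferInstance
  exact (ShortComplex.ab_exact_iff _).1 (hS.map (stk x)) b hb

/-- The stalkwise image. -/
noncomputable def rng (φ : F ⟶ G) (x : X) : AddSubgroup ((stk x).obj G) := (st φ x).range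

theorem mem_rng {φ : F ⟶ G} {x : X} {b : (stk x).obj G} : b ∈ rng φ x ↔ ∃ a, st φ x a = b := Iff.rfl

theorem rng_comp_le (φ : F ⟶ G) (ψ : G ⟶ K) (x : X) : rng (φ ≫ ψ) x ≤ rng ψ x := by
  rintro b ⟨a, rfl⟩
  exact ⟨st φ x a, (st_comp φ ψ x a).symm⟩

theorem rng_epi_comp (φ : F ⟶ G) [Epi φ] (ψ : G ⟶ K) (x : X) : rng (φ ≫ ψ) x = rng ψ x :=
  le_antisymm (rng_comp_le φ ψ x) (by
    rintro b ⟨a, rfl⟩
    obtain ⟨c, rfl⟩ := st_surjective φ x a
    exact ⟨c, st_comp φ ψ x c⟩)

theorem exists_lift (a : F ⟶ K) (b : G ⟶ K) [Mono b] (h : ∀ x, rng a x ≤ rng b x) :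
    ∃ l : F ⟶ G, l ≫ b = a := by
  have hz : a ≫ cokernel.π b = 0 := hom_eq_zero _ fun x c => by
    obtain ⟨d, hd⟩ := h x ⟨c, rfl⟩
    rw [st_comp, ← hd, ← st_comp, cokernel.condition, st_zero]
  exact ⟨(ShortComplex.exact_cokernel b).lift a hz, (ShortComplex.exact_cokernel b).lift_f a hz⟩

theorem nonempty_iso_of_rng_eq (a : F ⟶ K) [Mono a] (b : G ⟶ K) [Mono b] (h : ∀ x, rng a x = rng b x) :
    Nonempty (F ≅ G) := by
  obtain ⟨l, hl⟩ := exists_lift a b fun x => (h x).le
  obtain ⟨m, hm⟩ := exists_lift b a fun x => (h x).ge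
  refine ⟨⟨l, m, ?_, ?_⟩⟩
  · rw [← cancel_mono a, Category.assoc, hm, hl, Category.id_comp]
  · rw [← cancel_mono b, Category.assoc, hl, hm, Category.id_comp]

theorem rng_image_ι (φ : F ⟶ G) (x : X) : rng (Abelian.image.ι φ) x = rng φ x := by
  conv_rhs => rw [← Abelian.image.fac φ]
  rw [rng_epi_comp]

theorem rng_desc (φ : F ⟶ K) (ψ : G ⟶ K) (x : X) : rng (biprod.desc φ ψ) x = rng φ x ⊔ rng ψ x := by
  refine le_antisymm ?_ (sup_le ?_ ?_)
  · rintro b ⟨a, rfl⟩
    have e : biprod.desc φ ψ = biprod.fst ≫ φ + biprod.snd ≫ ψ := biprod.hom_ext' _ _ (by simp) (by simp)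
    rw [e, st_add, st_comp, st_comp]
    exact AddSubgroup.mem_sup.2 ⟨_, ⟨_, rfl⟩, _, ⟨_, rfl⟩, rfl⟩
  · conv_lhs => rw [← biprod.inl_desc φ ψ]
    exact rng_comp_le _ _ x
  · conv_lhs => rw [← biprod.inr_desc φ ψ]
    exact rng_comp_le _ _ x

section Free

/-- The germ of the tautological section. -/
noncomputable def gx (V : Opens X) (x : X) (hx : x ∈ V) : (stk x).obj (freeU V) := germ (freeU V) x hx (gen V)

theorem exists_eq_zsmul_gx (V : Opens X) (x : X) (a : (stk x).obj (freeU V)) :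
    (∀ hx : x ∈ V, ∃ n : ℤ, a = n • gx V x hx) ∧ (x ∉ V → a = 0) := by
  obtain ⟨U, hxU, s, rfl⟩ := exists_germ x a
  obtain ⟨W, hW, hxW, t, ht⟩ := exists_local_toSh_eq (yoneda.obj V ⋙ AddCommGrpCat.free) s hxU
  rw [← germ_map hW x hxW s]
  rw [show (freeU V).obj.map (homOfLE hW).op s = _ from ht.symm]
  clear ht
  induction t using FreeAbelianGroup.induction_on with
  | zero =>
    refine ⟨fun hx => ⟨0, ?_⟩, fun _ => ?_⟩
    · rw [map_zero, zero_zsmul]; exact map_zero _
    · rw [map_zero]; exact map_zero _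
  | of f =>
    have hWV : W ≤ V := leOfHom f
    refine ⟨fun hx => ⟨1, ?_⟩, fun hx => absurd (hWV hxW) hx⟩
    rw [one_zsmul, gx, ← germ_map hWV x hxW (gen V)]
    refine congrArg (germ (freeU V) x hxW) ?_
    rw [gen]
    refine Eq.trans ?_ (NatTrans.naturality_apply (toSheafify (Opens.grothendieckTopology X)
      (yoneda.obj V ⋙ AddCommGrpCat.free)) (homOfLE hWV).op (FreeAbelianGroup.of (𝟙 V))).symm.symm
    congr 1
  | neg f ih =>
    refine ⟨fun hx => ?_, fun hx => ?_⟩
    · obtain ⟨n, hn⟩ := ih.1 hx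
      refine ⟨-n, ?_⟩
      rw [map_neg, neg_zsmul, ← hn]; exact map_neg _ _
    · rw [map_neg]
      exact (map_neg _ _).trans ((congrArg Neg.neg (ih.2 hx)).trans neg_zero)
  | add f g ihf ihg =>
    refine ⟨fun hx => ?_, fun hx => ?_⟩
    · obtain ⟨n, hn⟩ := ihf.1 hx
      obtain ⟨m, hm⟩ := ihg.1 hx
      refine ⟨n + m, ?_⟩
      rw [map_add, add_zsmul, ← hn, ← hm]; exact map_add _ _ _
    · rw [map_add]
      exact (map_add _ _ _).trans ((congrArg₂ (· + ·) (ihf.2 hx) (ihg.2 hx)).trans (add_zero _))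

theorem eq_zero_of_zsmul_gx (V : Opens X) (x : X) (hx : x ∈ V) (n : ℤ) (h : n • gx V x hx = 0) : n = 0 := by
  let P : (Opens X)ᵒᵖ ⥤ AddCommGrpCat.{u} := yoneda.obj V ⋙ AddCommGrpCat.free
  have h' : germ (freeU V) x hx ((toSh P).app (op V) (n • FreeAbelianGroup.of (𝟙 V))) = 0 :=
    ((congrArg _ (map_zsmul _ _ _)).trans (map_zsmul _ _ _)).trans h
  obtain ⟨W, hxW, iV, iT, e⟩ := TopCat.Presheaf.germ_eq (freeU V).obj x hx hx _ 0 (h'.trans (map_zero _).symm)
  rw [map_zero] at e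
  obtain ⟨W', hW', hxW', e'⟩ := exists_local_eq_zero_of_toSh P (P.map iV.op (n • FreeAbelianGroup.of (𝟙 V)))
    ((NatTrans.naturality_apply (toSh P) iV.op _).trans e) hxW
  have e2 := congrArg (FreeAbelianGroup.lift fun _ => (1 : ℤ)) e'
  simp only [P, Functor.comp_map, map_zero] at e2
  erw [map_zsmul, map_zsmul] at e2
  simp only [map_zsmul] at e2
  erw [FreeAbelianGroup.lift_apply_of] at e2
  simpa using e2

/-- The inclusion of free sheaves. -/
noncomputable abbrev incFree {V U : Opens X} (h : V ≤ U) : freeU V ⟶ freeU U := (freeFunctor X).map (homOfLE h)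

theorem st_incFree {V U : Opens X} (h : V ≤ U) (x : X) (hx : x ∈ V) :
    st (incFree h) x (gx V x hx) = gx U x (h hx) := by
  rw [gx, st_germ, gx, ← germ_map h x hx (gen U)]
  exact congrArg (germ (freeU U) x hx) (gen_natural (homOfLE h))

theorem st_freeHom {V : Opens X} (φ : freeU V ⟶ F) (x : X) (hx : x ∈ V) :
    st φ x (gx V x hx) = germ F x hx (freeHomAddEquiv V F φ) := by
  rw [gx, st_germ, freeHomAddEquiv_apply]

instance mono_incFree {V U : Opens X} (h : V ≤ U) : Mono (incFree h) :=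
  mono_of_st _ fun x a ha => by
    by_cases hx : x ∈ V
    · obtain ⟨n, rfl⟩ := (exists_eq_zsmul_gx V x a).1 hx
      rw [map_zsmul, st_incFree h x hx] at ha
      rw [eq_zero_of_zsmul_gx U x (h hx) n ha, zero_zsmul]
    · exact (exists_eq_zsmul_gx V x a).2 hx

end Free

end Groth.Agent.SheafVan16
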